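import Mathlib
import Cfsg.Agent.H53.HC.Gal
import Cfsg.Agent.H113.PSL.Theta
import Cfsg.Agent.OddOrderCharacters.PF9.Reducible
import Cfsg.Agent.ChevalleyStructure.SL2Hom
import Cfsg.Agent.H829.CuspThree

/-!
# The cuspidal characters of order five of `SL₂(q²)`, `q² ≡ -1` modulo `5`, even characteristic (helper643)

`exists_cusp_five` : the cuspidal character with parameter of order five: degree `q² - 1`, value `-1` at the nontrivial
upper unitriangular matrices, moved by the field automorphism `φ : x ↦ x ^ q`, its image under an automorphism of `ℂ` is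
`χ` or `χ ∘ φ`.
-/

set_option autoImplicit false

open Polynomial Cfsg
open scoped ComplexConjugate

namespace Cfsg.Agent.H643.Gow.Five

open Cfsg.Agent.H139.Cusp Cfsg.Agent.Characters Cfsg.Agent.Characters.Core Cfsg.Agent.H53.HC.Gal Matrix
open Matrix.GeneralLinearGroup (upperRightHom)

universe u v w

attribute [local instance] fintypeHom fintypeSub finite_quot

section map

variable {F : Type u} [Field F] [Finite F] {L : Type w} [Field L] [Finite L] [Algebra F L]

/-- the image under an automorphism of `ℂ` -/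
noncomputable def mapTheta (σ : ℂ ≃+* ℂ) (θ : L →*₀ ℂ) : L →*₀ ℂ where
  toFun x := σ (θ x)
  map_zero' := by rw [map_zero, map_zero]
  map_one' := by rw [map_one, map_one]
  map_mul' x y := by rw [map_mul, map_mul]

omit [Finite L] in
theorem mapTheta_apply (σ : ℂ ≃+* ℂ) (θ : L →*₀ ℂ) (x : L) : mapTheta σ θ x = σ (θ x) := rfl

omit [Finite F] [Finite L] in
theorem lb_map (σ : ℂ ≃+* ℂ) (θ : L →*₀ ℂ) (f : F[X]) : lb L (mapTheta σ θ) f = σ (lb L θ f) := by
  rw [lb, lb, map_multiset_sum, Multiset.map_map]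
  rfl

variable {V : Type v} [AddCommGroup V] [Module F V] [Finite V]

theorem cusp_map (σ : ℂ ≃+* ℂ) (θ : L →*₀ ℂ) (hV : Module.finrank F V = Module.finrank F L) (g : V →ₗ[F] V) :
    cusp L (mapTheta σ θ) g = σ (cusp L θ g) := by
  have hn : 0 < Module.finrank F L := Module.finrank_pos
  have : Nontrivial V := Module.nontrivial_of_finrank_pos (R := F) (by omega)
  have key : ∀ (f : F[X]) (m : ℕ), f.Monic → Irreducible f → 0 < m → g.charpoly = f ^ m →
      cusp L (mapTheta σ θ) g = σ (cusp L θ g) := by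
    intro f m hf hirr hm hfm
    obtain ⟨k, hk⟩ := exists_finrank_ker hirr (g := g) (by rw [hfm]; exact dvd_pow_self f hm.ne')
    rw [cusp_formula L θ hf hirr hfm hk, cusp_formula L (mapTheta σ θ) hf hirr hfm hk, lb_map]
    simp only [map_mul, map_pow, map_neg, map_one, map_prod, map_sub, map_natCast]
  rcases cusp_eq_zero_or L θ g with ⟨f, m, hf, hirr, hm, hfm⟩ | h0
  · exact key f m hf hirr hm hfm
  · rcases cusp_eq_zero_or L (mapTheta σ θ) g with ⟨f, m, hf, hirr, hm, hfm⟩ | h0'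
    · exact key f m hf hirr hm hfm
    · rw [h0, h0', map_zero]

theorem psi_map {n : ℕ} (σ : ℂ ≃+* ℂ) (θ : L →*₀ ℂ) (hn : Module.finrank F L = n) (g : GL (Fin n) F) :
    psi L (mapTheta σ θ) g = σ (psi L θ g) := by
  rw [psi, psi, cuspMat, cuspMat, cusp_map σ θ (by rw [Module.finrank_fin_fun, hn])]

end map

section five

variable {F : Type u} [Field F] [Finite F] (L : Type w) [Field L] [Finite L] [Algebra F L] (θ : L →*₀ ℂ)

/-- the data -/
structure D5 (F : Type u) [Field F] [Finite F] (L : Type w) [Field L] [Finite L] [Algebra F L] (θ : L →*₀ ℂ)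
    (q : ℕ) : Prop where
  hsq : q ^ 2 = Nat.card F
  mod : (q ^ 2) % 5 = 4
  two : Module.finrank F L = 2
  five : ∀ x : L, x ≠ 0 → θ x ^ 5 = 1
  ne : ∃ x : L, x ≠ 0 ∧ θ x ≠ 1

variable {L θ} {q : ℕ}

theorem D5.q_mod (H : D5 F L θ q) : q % 5 = 2 ∨ q % 5 = 3 := by
  have h := H.mod
  rw [Nat.pow_mod] at h
  have h5 : q % 5 < 5 := Nat.mod_lt _ (by norm_num)
  interval_cases h6 : q % 5 <;> simp_all

theorem D5.pow_mod (H : D5 F L θ q) {x : L} (hx : x ≠ 0) (n : ℕ) : θ x ^ n = θ x ^ (n % 5) := by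
  conv_lhs => rw [← Nat.div_add_mod n 5, pow_add, pow_mul, H.five x hx, one_pow, one_mul]

theorem D5.base (H : D5 F L θ q) {c : F} (hc : c ≠ 0) : θ (algebraMap F L c) = 1 := by
  have hc' : algebraMap F L c ≠ 0 := (map_ne_zero_iff _ (algebraMap F L).injective).2 hc
  have h1 := H.five _ hc'
  have h2 : θ (algebraMap F L c) ^ (Nat.card F - 1) = 1 := by
    have h3 : c ^ (Nat.card F - 1) = 1 := by
      have h4 : (Units.mk0 c hc) ^ Nat.card Fˣ = 1 := pow_card_eq_one'
      have h5 := congrArg Units.val h4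
      rwa [Units.val_pow_eq_pow_val, Units.val_mk0, Units.val_one, Nat.card_units] at h5
    rw [← map_pow, ← map_pow, h3, map_one, map_one]
  have h4 : (Nat.card F - 1) % 5 = 3 := by
    have := H.mod
    rw [H.hsq] at this
    omega
  rw [H.pow_mod hc', h4] at h2
  have h6 : θ (algebraMap F L c) ^ 6 = 1 := by
    have : (6 : ℕ) = 3 * 2 := rfl
    rw [this, pow_mul, h2, one_pow]
  rw [H.pow_mod hc', pow_one] at h6
  exact h6

theorem D5.frob (H : D5 F L θ q) {x : L} (hx : x ≠ 0) : θ (x ^ Nat.card F) = θ x ^ 4 := by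
  rw [map_pow, H.pow_mod hx, ← H.hsq, H.mod]

theorem D5.regular (H : D5 F L θ q) : Regular F 2 θ := by
  intro i h0 hi
  have hi1 : i = 1 := by omega
  subst hi1
  obtain ⟨x, hx, h1⟩ := H.ne
  refine ⟨x, fun h2 => h1 ?_⟩
  rw [pow_one, H.frob hx] at h2
  have h3 : θ x ≠ 0 := (map_ne_zero θ).2 hx
  have h4 : θ x ^ 3 = 1 := by
    have h5 : θ x * θ x ^ 3 = θ x * 1 := by rw [mul_one, ← pow_succ', ← h2]
    exact mul_left_cancel₀ h3 h5
  have h6 : θ x ^ 6 = 1 := by
    have : (6 : ℕ) = 3 * 2 := rfl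
    rw [this, pow_mul, h4, one_pow]
  rw [H.pow_mod hx, pow_one] at h6
  exact h6

/-- the value at `g` and at its image under the field automorphism -/
theorem D5.cusp_phi (H : D5 F L θ q) {p : ℕ} [Fact p.Prime] [CharP F p] {φ : F ≃+* F}
    (hφ : ∀ x, φ x = x ^ q) {k : ℕ} (hk : k ≠ 0) (hkq : k * q ≠ 0) (A : Matrix (Fin 2) (Fin 2) F) :
    cuspMat L (powTheta θ (k * q) hkq) A = cuspMat L (powTheta θ k hk) (A.map φ) := by
  obtain ⟨j, hj⟩ := exists_frob_pow (p := p) φ
  have hq : ∃ m : ℕ, q = p ^ m := by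
    have hp : p.Prime := Fact.out
    have : Fintype F := Fintype.ofFinite F
    obtain ⟨f, -, hf⟩ := FiniteField.card F p
    have h1 : q ∣ p ^ (f : ℕ) := by
      rw [← hf, ← Nat.card_eq_fintype_card, ← H.hsq]
      exact dvd_pow_self q two_ne_zero
    obtain ⟨m, -, hm⟩ := (Nat.dvd_prime_pow hp).1 h1
    exact ⟨m, hm⟩
  obtain ⟨m, hm⟩ := hq
  have hτ : ∀ x : F, φ x = x ^ p ^ m := fun x => by rw [hφ, hm]
  obtain ⟨σ, hσ, hστ⟩ := exists_ext (L := L) hτ
  symm
  refine cuspMat_semilinear H.two hστ (fun x => ?_) A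
  rw [hσ, powTheta_apply, powTheta_apply, map_pow, ← pow_mul, ← hm, mul_comm k q]

theorem D5.powTheta_congr (H : D5 F L θ q) {a b : ℕ} (ha : a ≠ 0) (hb : b ≠ 0) (hab : a % 5 = b % 5) :
    powTheta θ a ha = powTheta θ b hb := by
  ext x
  rw [powTheta_apply, powTheta_apply]
  by_cases hx : x = 0
  · rw [hx, map_zero, zero_pow ha, zero_pow hb]
  · rw [H.pow_mod hx a, H.pow_mod hx b, hab]

/-- the image of `θ` under an automorphism of `ℂ` is a power of `θ` -/
theorem D5.exists_pow (H : D5 F L θ q) (σ : ℂ ≃+* ℂ) : ∃ k : ℕ, ∃ hk : k ≠ 0, k % 5 ≠ 0 ∧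
    mapTheta σ θ = powTheta θ k hk := by
  obtain ⟨x₀, hx₀, h1⟩ := H.ne
  have hprim : IsPrimitiveRoot (θ x₀) 5 := by
    have : Fact (Nat.Prime 5) := ⟨by norm_num⟩
    have h2 : orderOf (θ x₀) = 5 := orderOf_eq_prime (H.five x₀ hx₀) h1
    rw [← h2]
    exact IsPrimitiveRoot.orderOf _
  have h3 : σ (θ x₀) ^ 5 = 1 := by rw [← map_pow, H.five x₀ hx₀, map_one]
  obtain ⟨k, hk5, hk⟩ := hprim.eq_pow_of_pow_eq_one h3
  have hk0 : k % 5 ≠ 0 := by
    intro h4
    have h5 : k = 0 := by omega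
    rw [h5, pow_zero] at hk
    apply h1
    apply σ.injective
    rw [map_one, ← hk]
  refine ⟨k, fun h => hk0 (by rw [h]), hk0, ?_⟩
  ext x
  rw [mapTheta_apply, powTheta_apply]
  by_cases hx : x = 0
  · rw [hx, map_zero, map_zero, zero_pow (fun h => hk0 (by rw [h]))]
  · obtain ⟨j, -, hj⟩ := hprim.eq_pow_of_pow_eq_one (H.five x hx)
    rw [← hj, map_pow, ← hk, ← pow_mul, ← pow_mul, mul_comm]

/-- the Galois conjugates -/
theorem D5.galois (H : D5 F L θ q) {p : ℕ} [Fact p.Prime] [CharP F p] {φ : F ≃+* F}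
    (hφ : ∀ x, φ x = x ^ q) (σ : ℂ ≃+* ℂ) :
    (∀ A : Matrix (Fin 2) (Fin 2) F, cuspMat L (mapTheta σ θ) A = cuspMat L θ A) ∨
      ∀ A : Matrix (Fin 2) (Fin 2) F, cuspMat L (mapTheta σ θ) A = cuspMat L θ (A.map φ) := by
  obtain ⟨k, hk0, hk, hkσ⟩ := H.exists_pow σ
  have hq0 : q ≠ 0 := by
    rintro rfl
    have := H.mod
    simp at this
  have hφφ : ∀ x, φ (φ x) = x := by
    intro x
    have : Fintype F := Fintype.ofFinite F
    rw [hφ, hφ, ← pow_mul, ← pow_two, H.hsq, Nat.card_eq_fintype_card, FiniteField.pow_card]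
  have hmap : ∀ A : Matrix (Fin 2) (Fin 2) F, (A.map φ).map φ = A := by
    intro A
    ext i j
    simp [hφφ]
  have h1 : powTheta θ 1 one_ne_zero = θ := by
    ext x
    rw [powTheta_apply, pow_one]
  -- exponents `1, q, q², q³`
  have e1 : ∀ A : Matrix (Fin 2) (Fin 2) F, cuspMat L (powTheta θ q hq0) A = cuspMat L θ (A.map φ) := by
    intro A
    have h2 := H.cusp_phi (p := p) hφ one_ne_zero (by rw [one_mul]; exact hq0) A
    rw [h1] at h2
    rw [← h2]
    congr 2
    rw [one_mul]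
  have e2 : ∀ A : Matrix (Fin 2) (Fin 2) F, cuspMat L (powTheta θ (q * q) (mul_ne_zero hq0 hq0)) A = cuspMat L θ A := by
    intro A
    rw [H.cusp_phi (p := p) hφ hq0, e1, hmap]
  have e3 : ∀ A : Matrix (Fin 2) (Fin 2) F, cuspMat L (powTheta θ (q * q * q) (mul_ne_zero (mul_ne_zero hq0 hq0) hq0)) A =
      cuspMat L θ (A.map φ) := by
    intro A
    rw [H.cusp_phi (p := p) hφ (mul_ne_zero hq0 hq0), e2]
  rw [hkσ]
  have hk4 : k % 5 = 1 ∨ k % 5 = 2 ∨ k % 5 = 3 ∨ k % 5 = 4 := by omega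
  have hqq : (q * q) % 5 = 4 := by rw [← pow_two]; exact H.mod
  have hqqq : (q * q * q) % 5 = (4 * (q % 5)) % 5 := by rw [Nat.mul_mod, hqq, Nat.mul_mod, Nat.mod_mod, Nat.mul_mod]
  rcases H.q_mod with h5 | h5 <;> rw [h5] at hqqq <;> rcases hk4 with h6 | h6 | h6 | h6
  · left; intro A; rw [H.powTheta_congr hk0 one_ne_zero h6, h1]
  · right; intro A; rw [H.powTheta_congr hk0 hq0 (by rw [h6, h5]), e1]
  · right; intro A; rw [H.powTheta_congr hk0 (mul_ne_zero (mul_ne_zero hq0 hq0) hq0) (by rw [h6]; exact hqqq.symm), e3]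
  · left; intro A; rw [H.powTheta_congr hk0 (mul_ne_zero hq0 hq0) (by rw [h6, hqq]), e2]
  · left; intro A; rw [H.powTheta_congr hk0 one_ne_zero h6, h1]
  · right; intro A; rw [H.powTheta_congr hk0 (mul_ne_zero (mul_ne_zero hq0 hq0) hq0) (by rw [h6]; exact hqqq.symm), e3]
  · right; intro A; rw [H.powTheta_congr hk0 hq0 (by rw [h6, h5]), e1]
  · left; intro A; rw [H.powTheta_congr hk0 (mul_ne_zero hq0 hq0) (by rw [h6, hqq]), e2]

/-- the value at the upper unitriangular matrices -/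
theorem cusp_up (θ : L →*₀ ℂ) {c : F} (hc : c ≠ 0) : cuspMat L θ !![1, c; 0, 1] = -1 := by
  have hV2 : Module.finrank F (Fin 2 → F) = 2 := Module.finrank_fin_fun F
  rw [cuspMat]
  have hcp : (Matrix.toLin' !![1, c; 0, 1]).charpoly = (X - C (1 : F)) ^ 2 := by
    rw [Matrix.charpoly_toLin', Matrix.charpoly_fin_two]
    simp [Matrix.trace_fin_two, Matrix.det_fin_two]
    ring
  have hk : Module.finrank F (LinearMap.ker
      (aeval (Matrix.toLin' !![1, c; 0, 1]) (X - C (1 : F)))) =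
      (X - C (1 : F)).natDegree * (0 + 1) := by
    rw [natDegree_X_sub_C]
    have h6 : LinearMap.ker (aeval (Matrix.toLin' !![1, c; 0, 1]) (X - C (1 : F))) =
        Submodule.span F {(Pi.single 0 1 : Fin 2 → F)} := by
      ext v
      have h7 : aeval (Matrix.toLin' !![1, c; 0, 1]) (X - C (1 : F)) v = ![c * v 1, 0] := by
        rw [map_sub, aeval_X, aeval_C, LinearMap.sub_apply, Matrix.toLin'_apply]
        funext i
        fin_cases i <;> simp [Matrix.mulVec, dotProduct, Fin.sum_univ_two]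
      rw [LinearMap.mem_ker, h7, Submodule.mem_span_singleton]
      constructor
      · intro h8
        have h9 := congrFun h8 0
        simp only [Matrix.cons_val_zero, Pi.zero_apply, mul_eq_zero] at h9
        refine ⟨v 0, ?_⟩
        funext i
        fin_cases i
        · simp
        · simp [h9.resolve_left hc]
      · rintro ⟨a, rfl⟩
        funext i
        fin_cases i <;> simp
    rw [h6, finrank_span_singleton (by
      intro h8
      have := congrFun h8 0
      simp at this)]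
  rw [cusp_formula L θ (monic_X_sub_C 1) (irreducible_X_sub_C 1) hcp hk, hV2, C_1, lb_X_sub_one]
  simp

theorem D5.q_ne (H : D5 F L θ q) : q ≠ 0 := by
  rintro rfl
  have := H.mod
  simp at this

open ChevalleyStructure.SL2Hom in
/-- irreducibility on `SL₂` in characteristic two -/
theorem D5.irr (H : D5 F L θ q) [CharP F 2] :
    IsIrrCharacter (SpecialLinearGroup (Fin 2) F) (psi L θ ∘ SpecialLinearGroup.toGL) := by
  have : Fintype F := Fintype.ofFinite F
  let Z : Subgroup (GL (Fin 2) F) := (GeneralLinearGroup.scalar (Fin 2)).range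
  have hcen : ∀ (c : Fˣ) (g : GL (Fin 2) F), GeneralLinearGroup.scalar (Fin 2) c * g =
      g * GeneralLinearGroup.scalar (Fin 2) c := by
    intro c g
    apply Units.ext
    rw [Units.val_mul, Units.val_mul, GeneralLinearGroup.coe_scalar]
    exact (Matrix.scalar_commute (c : F) (fun r' => mul_comm _ _) (g : Matrix (Fin 2) (Fin 2) F))
  have hZ : Z.Normal := by
    constructor
    rintro _ ⟨c, rfl⟩ g
    rw [← hcen, mul_inv_cancel_right]
    exact ⟨c, rfl⟩
  obtain ⟨χ', hχ', hval⟩ := Cfsg.Agent.OddOrderCharacters.PF9.Reducible.exists_of_surjective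
    (QuotientGroup.mk' Z) (QuotientGroup.mk'_surjective Z) (psi_isIrr θ H.two H.regular) (by
      intro g hg
      obtain ⟨c, rfl⟩ := (QuotientGroup.eq_one_iff g).1 hg
      have h1 := psi_scalar θ H.two c 1
      rw [mul_one, H.base c.ne_zero, one_mul] at h1
      exact h1)
  have hsurj : Function.Surjective ((QuotientGroup.mk' Z).comp
      (SpecialLinearGroup.toGL : SpecialLinearGroup (Fin 2) F →* GL (Fin 2) F)) := by
    intro x
    obtain ⟨g, rfl⟩ := QuotientGroup.mk'_surjective Z x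
    obtain ⟨c, hc⟩ : IsSquare (Matrix.det (g : Matrix (Fin 2) (Fin 2) F)) :=
      FiniteField.isSquare_of_char_two (ringChar.eq F 2) _
    have hdet : Matrix.det (g : Matrix (Fin 2) (Fin 2) F) ≠ 0 := (GeneralLinearGroup.det g).ne_zero
    have hc0 : c ≠ 0 := by
      rintro rfl
      rw [mul_zero] at hc
      exact hdet hc
    refine ⟨⟨c⁻¹ • (g : Matrix (Fin 2) (Fin 2) F), ?_⟩, ?_⟩
    · rw [Matrix.det_smul, Fintype.card_fin, hc]
      field_simp
    · refine (QuotientGroup.eq (s := Z)).2 ⟨Units.mk0 c hc0, ?_⟩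
      rw [eq_inv_mul_iff_mul_eq]
      apply Units.ext
      rw [Units.val_mul, GeneralLinearGroup.coe_scalar]
      change (c⁻¹ • (g : Matrix (Fin 2) (Fin 2) F)) * Matrix.scalar (Fin 2) c = g
      ext i j
      simp [Matrix.scalar_apply, Matrix.mul_diagonal, hc0, mul_comm]
  have h3 := Core.isIrr_comp _ hsurj hχ'
  have h4 : χ' ∘ ((QuotientGroup.mk' Z).comp
      (SpecialLinearGroup.toGL : SpecialLinearGroup (Fin 2) F →* GL (Fin 2) F)) =
      psi L θ ∘ SpecialLinearGroup.toGL := by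
    funext g
    exact hval _
  rwa [h4] at h3

/-- the field automorphism moves the character -/
theorem D5.move (H : D5 F L θ q) [CharP F 2] {φ : F ≃+* F} (hφ : ∀ x, φ x = x ^ q) :
    ∃ g : SpecialLinearGroup (Fin 2) F, cuspMat L θ ((g : Matrix (Fin 2) (Fin 2) F).map φ) ≠
      cuspMat L θ (g : Matrix (Fin 2) (Fin 2) F) := by
  classical
  by_contra hcon
  push Not at hcon
  have : Fact (Nat.Prime 2) := ⟨Nat.prime_two⟩
  have : Fintype (SpecialLinearGroup (Fin 2) F) := Fintype.ofFinite _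
  have h1 : powTheta θ 1 one_ne_zero = θ := by
    ext x
    rw [powTheta_apply, pow_one]
  have h2 : psi (n := 2) (F := F) L (powTheta θ q H.q_ne) ∘ SpecialLinearGroup.toGL =
      psi L θ ∘ SpecialLinearGroup.toGL := by
    funext g
    have h3 := H.cusp_phi (p := 2) hφ one_ne_zero (by rw [one_mul]; exact H.q_ne) (g : Matrix (Fin 2) (Fin 2) F)
    rw [h1, hcon] at h3
    rw [Function.comp_apply, Function.comp_apply]
    refine Eq.trans ?_ h3
    rw [psi]
    congr 2
    rw [one_mul]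
  have h4 : classInner (psi (n := 2) (F := F) L θ ∘ SpecialLinearGroup.toGL)
      (psi L (powTheta θ q H.q_ne) ∘ SpecialLinearGroup.toGL) ≠ 0 := by
    rw [h2, Core.classInner_irr_self H.irr]
    exact one_ne_zero
  obtain ⟨i, hi, h5⟩ := exists_frob_eq H.two _ _ h4
  obtain ⟨y, hy, hy1⟩ := H.ne
  have hnorm : Algebra.norm F (y ^ (Nat.card F - 1)) = 1 := by
    rw [map_pow]
    have h1 : Algebra.norm F y ≠ 0 := by
      rw [Ne, Algebra.norm_eq_zero_iff]
      exact hy
    have h3 : (Units.mk0 _ h1) ^ (Nat.card F - 1) = 1 := by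
      rw [← Nat.card_units]
      exact pow_card_eq_one'
    exact congrArg Units.val h3
  have h6 := h5 _ hnorm
  have hprim : IsPrimitiveRoot (θ y) 5 := by
    have : Fact (Nat.Prime 5) := ⟨by norm_num⟩
    have h2 : orderOf (θ y) = 5 := orderOf_eq_prime (H.five y hy) hy1
    rw [← h2]
    exact IsPrimitiveRoot.orderOf _
  have hmod : (Nat.card F - 1) % 5 = 3 := by
    have := H.mod
    rw [H.hsq] at this
    omega
  rw [powTheta_apply, map_pow, ← pow_mul, ← pow_mul, map_pow, H.pow_mod hy,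
    H.pow_mod hy ((Nat.card F - 1) * Nat.card F ^ i)] at h6
  have h7 := hprim.pow_inj (Nat.mod_lt _ (by norm_num)) (Nat.mod_lt _ (by norm_num)) h6
  rw [Nat.mul_mod, hmod] at h7
  have hi2 : i = 0 ∨ i = 1 := by omega
  rcases hi2 with rfl | rfl
  · rw [pow_zero, mul_one, hmod] at h7
    rcases H.q_mod with h8 | h8 <;> rw [h8] at h7 <;> omega
  · have hF5 : Nat.card F % 5 = 4 := by rw [← H.hsq]; exact H.mod
    rw [pow_one, Nat.mul_mod (Nat.card F - 1), hmod, hF5] at h7
    rcases H.q_mod with h8 | h8 <;> rw [h8] at h7 <;> omega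

end five

open ChevalleyStructure.SL2Hom in
/-- **The cuspidal character of order five.** -/
theorem exists_cusp_five (F : Type u) [Field F] [Finite F] [CharP F 2] {q : ℕ} (hq : q ^ 2 = Nat.card F)
    (h5 : q ^ 2 % 5 = 4) (φ : F ≃+* F) (hφ : ∀ x, φ x = x ^ q) :
    ∃ χ : SpecialLinearGroup (Fin 2) F → ℂ, IsIrrCharacter _ χ ∧ χ 1 = ((Nat.card F - 1 : ℕ) : ℂ) ∧
      (∀ c : F, c ≠ 0 → χ (up c) = -1) ∧
      (∃ g, χ (SpecialLinearGroup.map (φ : F →+* F) g) ≠ χ g) ∧
      ∀ σ : ℂ ≃+* ℂ, (∀ g, σ (χ g) = χ g) ∨ ∀ g, σ (χ g) = χ (SpecialLinearGroup.map (φ : F →+* F) g) := by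
  classical
  have hpf : Fact (Nat.Prime 2) := ⟨Nat.prime_two⟩
  let L := FiniteField.Extension F 2 2
  have hL2 : Module.finrank F L = 2 := FiniteField.finrank_extension F 2 2
  have hLcard : Nat.card L = Nat.card F ^ 2 := FiniteField.natCard_extension F 2 2
  obtain ⟨θ, hθ1, hθ2⟩ := Cfsg.Agent.H113.PSL.Theta.exists_of_order (L := L) (k := 5) (by
    rw [hLcard, ← hq]
    have h6 : (q ^ 2) ^ 2 % 5 = 1 := by rw [Nat.pow_mod, h5]
    omega)
  have H : D5 F L θ q := by
    refine ⟨hq, h5, hL2, hθ1, ?_⟩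
    by_contra hno
    push Not at hno
    have h4 := hθ2 1 (fun x hx => by rw [pow_one]; exact hno x hx)
    omega
  have hmap : ∀ g : SpecialLinearGroup (Fin 2) F,
      ((SpecialLinearGroup.map (φ : F →+* F) g : SpecialLinearGroup (Fin 2) F) : Matrix (Fin 2) (Fin 2) F) =
        (g : Matrix (Fin 2) (Fin 2) F).map φ := fun g => rfl
  refine ⟨psi L θ ∘ SpecialLinearGroup.toGL, H.irr, ?_, ?_, ?_, ?_⟩
  · rw [Function.comp_apply, map_one, psi_one L θ (by norm_num)]
    simp [degP]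
  · intro c hc
    exact cusp_up θ hc
  · obtain ⟨g, hg⟩ := H.move hφ
    exact ⟨g, hg⟩
  · intro σ
    rcases H.galois (p := 2) hφ σ with h | h
    · left
      intro g
      rw [Function.comp_apply, ← psi_map σ θ hL2]
      exact h _
    · right
      intro g
      rw [Function.comp_apply, ← psi_map σ θ hL2]
      exact h _

end Cfsg.Agent.H643.Gow.Five
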