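import Mathlib
import Cfsg.Agent.H115.HC.RgdCusp
import Cfsg.Agent.Nodes.RGDFoldSL
import Cfsg.Agent.TwoFusion.SLTwoFacts
import Cfsg.Agent.ClassicalGeometry.PSL2Basic

/-!
# Rank one subgroups `SL₂(F)` of a group with a root group datum, even characteristic (helper643)

`R : RGD cs h p T n X`, `i` a node, `Φ : SL₂(F) →* Y` with `X (α_i) = {Φ (up a)}`, `Φ w = n i`, `Φ (h d) ∈ T`.

* `cen_neg` : an element of `T` centralising `X (α_i)` centralises `X (-α_i)`;
* `SLN.equiv` : `SL₂(F) ≃* MJ {i}`; `SLN.center`, `SLN.isSimple`;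
* `SLN.inner` : `T` acts on `MJ {i}` by inner automorphisms.
-/

set_option autoImplicit false
set_option linter.unusedSectionVars false

open Cfsg

namespace Cfsg.Agent.H643.Gow.Node

open CoxeterSystem Cfsg.Agent.ChevalleyStructure.CoxeterGeom Cfsg.Agent.Tits.Roots Cfsg.Agent.Tits.Core
  Cfsg.Agent.Tits.Exchange Cfsg.Agent.Nodes.Reps Cfsg.Agent.Nodes.BNOf Cfsg.Agent.Nodes.StabComb
  Cfsg.Agent.Nodes.Bruhat Cfsg.Agent.Nodes.OppDec Cfsg.Agent.Nodes.LeviDec Cfsg.Agent.H53.HC Cfsg.Agent.H115.HC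
  Cfsg.Agent.ChevalleyStructure.SL2Hom Cfsg.Agent.Nodes.RGDFoldSL Matrix

variable {I W Y : Type*} [Fintype I] [DecidableEq I] [Group W] [Group Y] {M : CoxeterMatrix I}
  {cs : CoxeterSystem M W} {A : I → I → ℤ} {h : IsCartan M A} {p : ℕ} {T : Subgroup Y} {n : I → Y}
  {X : (I → ℤ) → Subgroup Y}

/-- An element of `T` centralising `X (α_i)` centralises `X (-α_i)`. -/
theorem cen_neg [Finite W] (R : RGD cs h p T n X) {i : I} {t : Y} (ht : t ∈ T)
    (hc : ∀ u ∈ X (sr i), t * u = u * t) : ∀ u ∈ X (-sr i), t * u = u * t := by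
  intro u hu
  by_cases hu1 : u = 1
  · rw [hu1, mul_one, one_mul]
  obtain ⟨a, ha, s, hs, b, hb, e⟩ := R.rk1 i u hu hu1
  have hsn : Rp cs R.nsys (cs.simple i) (s * n i) := by
    have := (rp_of_mem (cs := cs) (hN := R.nsys) hs).mul (rp_simple cs R.nsys i)
    rwa [one_mul] at this
  -- `t'' = (s n)⁻¹ t (s n) t⁻¹`
  have h1 : (s * n i)⁻¹ * t * (s * n i) ∈ T := by
    have h2 := mem_normalizer_iff_cj.1 hsn.inv.mem_normalizer
    have h3 : (s * n i)⁻¹ * t * (s * n i)⁻¹⁻¹ ∈ cj (s * n i)⁻¹ T := conj_mem_cj.2 ht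
    rwa [h2, inv_inv] at h3
  have h2 : (s * n i)⁻¹ * t * (s * n i) * t⁻¹ ∈ T := mul_mem h1 (inv_mem ht)
  have hta : t * a * t⁻¹ = a := by rw [hc a ha, mul_inv_cancel_right]
  have htb : t * b * t⁻¹ = b := by rw [hc b hb, mul_inv_cancel_right]
  have h3 : u⁻¹ * (t * u * t⁻¹) = b⁻¹ * ((s * n i)⁻¹ * t * (s * n i) * t⁻¹) * b := by
    have h4 : t * u * t⁻¹ = (t * a * t⁻¹) * (t * (s * n i) * t⁻¹) * (t * b * t⁻¹) := by rw [e]; group
    rw [h4, hta, htb, e]
    group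
  have h4 : u⁻¹ * (t * u * t⁻¹) ∈ X (-sr i) := by
    refine mul_mem (inv_mem hu) ?_
    rw [← R.tor _ (isRoot_sr cs h i).neg t ht]
    exact conj_mem_cj.2 hu
  have h5 : u⁻¹ * (t * u * t⁻¹) ∈ RGD.B cs h T X := by
    rw [h3]
    have hbB := RGD.X_le_B (T := T) (X := X) (isRoot_sr cs h i) (sr_nonneg i) hb
    exact mul_mem (mul_mem (inv_mem hbB) (RGD.T_le_B h2)) hbB
  have h6 := eq_one_of_mem_UN_of_mem_B R (X_le_UN (X := X) (isRoot_sr cs h i).neg (neg_nonpos.2 (sr_nonneg i)) h4) h5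
  have h7 : t * u * t⁻¹ = u := by
    rw [inv_mul_eq_one] at h6
    exact h6.symm
  rw [mul_inv_eq_iff_eq_mul] at h7
  exact h7

theorem RootsJ_single (i : I) : RootsJ cs h {i} = {sr i, -sr i} := by
  ext x
  constructor
  · intro hx
    rcases hx.1.pos_or_neg with h0 | h0
    · left
      have : x ∈ PosJ cs h {i} := ⟨hx.1, h0, hx.2⟩
      rw [PosJ_single] at this
      exact this
    · right
      have : -x ∈ PosJ cs h {i} := ⟨hx.1.neg, neg_nonneg.2 h0, fun k hk => by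
        rw [Pi.neg_apply, hx.2 k hk, neg_zero]⟩
      rw [PosJ_single] at this
      rw [Set.mem_singleton_iff, ← Set.mem_singleton_iff.1 this, neg_neg]
  · rintro (rfl | rfl)
    · exact PosJ_subset _ (sr_mem_PosJ (Set.mem_singleton i))
    · exact RootsJ.neg (PosJ_subset _ (sr_mem_PosJ (Set.mem_singleton i)))

theorem MJ_single (i : I) : MJ cs h X {i} = X (sr i) ⊔ X (-sr i) := by
  unfold MJ
  rw [RootsJ_single]
  apply le_antisymm
  · refine RGD.Sup_le fun z hz => ?_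
    rcases hz with rfl | hz
    · exact le_sup_left
    · rw [Set.mem_singleton_iff.1 hz]
      exact le_sup_right
  · exact sup_le (RGD.le_Sup (Or.inl rfl)) (RGD.le_Sup (Or.inr rfl))

/-- the homomorphism `SL₂(F) → Y` of the node `i` -/
structure SLN (T : Subgroup Y) (n : I → Y) (X : (I → ℤ) → Subgroup Y) (i : I) (F : Type*) [Field F]
    (Φ : SpecialLinearGroup (Fin 2) F →* Y) : Prop where
  mem : ∀ g, g ∈ X (sr i) ↔ ∃ a, g = Φ (up a)
  w : Φ (wS 1) = n i
  tor : ∀ d : F, d ≠ 0 → Φ (hS d) ∈ T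
  inj : Function.Injective fun a => Φ (up a)

variable {i : I} {F : Type*} [Field F] {Φ : SpecialLinearGroup (Fin 2) F →* Y}

theorem SLN.up_mem (S : SLN T n X i F Φ) (a : F) : Φ (up a) ∈ X (sr i) := (S.mem _).2 ⟨a, rfl⟩

variable (R : RGD cs h p T n X)

include R in
theorem SLN.mem_neg (S : SLN T n X i F Φ) (g : Y) : g ∈ X (-sr i) ↔ ∃ a, g = Φ (lo a) := by
  have h1 : X (-sr i) = cj (n i) (X (sr i)) := by
    rw [R.conj i _ (isRoot_sr cs h i), rep_simple_sr]
  rw [h1, mem_cj]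
  constructor
  · intro hg
    obtain ⟨a, ha⟩ := (S.mem _).1 hg
    refine ⟨-a, ?_⟩
    rw [lo_eq, map_mul, map_mul, map_inv, neg_neg, ← ha, S.w]
    group
  · rintro ⟨a, rfl⟩
    rw [lo_eq, map_mul, map_mul, map_inv, S.w]
    have : (n i)⁻¹ * (n i * Φ (up (-a)) * (n i)⁻¹) * n i = Φ (up (-a)) := by group
    rw [this]
    exact S.up_mem _

include R in
theorem SLN.range (S : SLN T n X i F Φ) : Φ.range = MJ cs h X {i} := by
  rw [MJ_single]
  apply le_antisymm
  · rintro _ ⟨g, rfl⟩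
    have h1 : Subgroup.closure (Set.range (up (F := F)) ∪ Set.range (lo (F := F))) ≤
        (X (sr i) ⊔ X (-sr i)).comap Φ := by
      rw [Subgroup.closure_le]
      rintro _ (⟨a, rfl⟩ | ⟨a, rfl⟩)
      · exact (le_sup_left : X (sr i) ≤ _) (S.up_mem a)
      · exact (le_sup_right : X (-sr i) ≤ _) ((S.mem_neg R _).2 ⟨a, rfl⟩)
    exact h1 (mem_closure_SL2 g)
  · refine sup_le (fun g hg => ?_) (fun g hg => ?_)
    · obtain ⟨a, rfl⟩ := (S.mem _).1 hg
      exact ⟨_, rfl⟩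
    · obtain ⟨a, rfl⟩ := (S.mem_neg R _).1 hg
      exact ⟨_, rfl⟩

/-- `SL₂(F)` in characteristic two is simple -/
theorem sl_normal [Finite F] [CharP F 2] (hF : 3 < Nat.card F) (N : Subgroup (SpecialLinearGroup (Fin 2) F))
    [hN : N.Normal] : N = ⊥ ∨ N = ⊤ := by
  have : Fintype F := Fintype.ofFinite F
  have hs := TwoFusion.SLTwoFacts.isSimpleGroup_psl (F := F) (by rwa [← Nat.card_eq_fintype_card])
  have hneg : (-1 : SpecialLinearGroup (Fin 2) F) = 1 := by
    apply Subtype.ext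
    ext i j
    have h2 : (-1 : F) = 1 := by
      have : (2 : F) = 0 := by
        have := CharP.cast_eq_zero F 2
        exact_mod_cast this
      rw [neg_eq_iff_add_eq_zero, one_add_one_eq_two, this]
    fin_cases i <;> fin_cases j <;> simp [h2]
  have hcen : Subgroup.center (SpecialLinearGroup (Fin 2) F) = ⊥ := by
    rw [Subgroup.eq_bot_iff_forall]
    intro z hz
    rcases ClassicalGeometry.PSL2Basic.mem_center_SL2_iff.1 hz with h1 | h1
    · exact h1
    · rw [h1, hneg]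
  have hmap : (N.map (QuotientGroup.mk' (Subgroup.center (SpecialLinearGroup (Fin 2) F)))).Normal :=
    hN.map _ (QuotientGroup.mk'_surjective _)
  have hinj : Function.Injective (QuotientGroup.mk' (Subgroup.center (SpecialLinearGroup (Fin 2) F))) := by
    rw [← MonoidHom.ker_eq_bot_iff, QuotientGroup.ker_mk', hcen]
  rcases hs.eq_bot_or_eq_top_of_normal _ hmap with h1 | h1
  · left
    exact (Subgroup.map_eq_bot_iff_of_injective _ hinj).1 h1
  · right
    rw [eq_top_iff]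
    intro g _
    have h2 : QuotientGroup.mk' (Subgroup.center (SpecialLinearGroup (Fin 2) F)) g ∈
        N.map (QuotientGroup.mk' (Subgroup.center (SpecialLinearGroup (Fin 2) F))) := by
      rw [h1]
      exact Subgroup.mem_top _
    obtain ⟨m, hm, e⟩ := h2
    rw [← hinj e]
    exact hm

theorem hS_mul_up {c : F} (hc : c ≠ 0) (a : F) : hS c * up a = up (c * c * a) * hS c := by
  apply Subtype.ext
  rw [Matrix.SpecialLinearGroup.coe_mul, Matrix.SpecialLinearGroup.coe_mul, coe_hS hc]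
  show _ * (!![1, a; 0, 1] : Matrix (Fin 2) (Fin 2) F) = !![1, c * c * a; 0, 1] * _
  ext i j
  fin_cases i <;> fin_cases j <;> simp [Matrix.mul_apply, Fin.sum_univ_two]
  field_simp

theorem hS_up {c : F} (hc : c ≠ 0) (a : F) : hS c * up a * (hS c)⁻¹ = up (c * c * a) := by
  rw [mul_inv_eq_iff_eq_mul, hS_mul_up hc]

/-- the big cell -/
theorem eq_up_lo_up (g : SpecialLinearGroup (Fin 2) F) (hc : (g : Matrix (Fin 2) (Fin 2) F) 1 0 ≠ 0) :
    g = up (((g : Matrix (Fin 2) (Fin 2) F) 0 0 - 1) / (g : Matrix (Fin 2) (Fin 2) F) 1 0) *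
      lo ((g : Matrix (Fin 2) (Fin 2) F) 1 0) *
      up (((g : Matrix (Fin 2) (Fin 2) F) 1 1 - 1) / (g : Matrix (Fin 2) (Fin 2) F) 1 0) := by
  have hdet : (g : Matrix (Fin 2) (Fin 2) F) 0 0 * (g : Matrix (Fin 2) (Fin 2) F) 1 1 -
      (g : Matrix (Fin 2) (Fin 2) F) 0 1 * (g : Matrix (Fin 2) (Fin 2) F) 1 0 = 1 := by
    rw [← Matrix.det_fin_two]
    exact g.2
  generalize ha : (g : Matrix (Fin 2) (Fin 2) F) 0 0 = a at hdet ⊢
  generalize hb : (g : Matrix (Fin 2) (Fin 2) F) 0 1 = b at hdet ⊢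
  generalize hc' : (g : Matrix (Fin 2) (Fin 2) F) 1 0 = c at hdet hc ⊢
  generalize hd : (g : Matrix (Fin 2) (Fin 2) F) 1 1 = d at hdet ⊢
  apply Subtype.ext
  rw [Matrix.SpecialLinearGroup.coe_mul, Matrix.SpecialLinearGroup.coe_mul]
  show (g : Matrix (Fin 2) (Fin 2) F) =
    (!![1, (a - 1) / c; 0, 1] : Matrix (Fin 2) (Fin 2) F) * !![1, 0; c, 1] * !![1, (d - 1) / c; 0, 1]
  rw [Matrix.eta_fin_two (g : Matrix (Fin 2) (Fin 2) F), ha, hb, hc', hd]
  ext i j
  fin_cases i <;> fin_cases j <;> simp [Matrix.mul_apply, Fin.sum_univ_two]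
  · field_simp
    ring
  · field_simp
    linear_combination -hdet
  · field_simp
    ring

include R in
theorem SLN.lo_ne [Finite W] (S : SLN T n X i F Φ) {c : F} (hc : c ≠ 0) {x : F} : Φ (lo c) ≠ Φ (up x) := by
  intro he
  have h1 : Φ (lo c) = 1 := by
    have h2 := X_inf_X R (isRoot_sr cs h i) (isRoot_sr cs h i).neg (x := sr i) (y := -sr i) (by
      intro h0
      have h3 := congrFun h0 i
      rw [Pi.neg_apply, sr_self] at h3
      omega)
    rw [Subgroup.eq_bot_iff_forall] at h2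
    exact h2 _ ⟨he ▸ S.up_mem x, (S.mem_neg R _).2 ⟨c, rfl⟩⟩
  have h2 : Φ (up (-c)) = Φ (up 0) := by
    have h3 : up (-c) = (wS 1)⁻¹ * lo c * wS 1 := by rw [lo_eq]; group
    have h4 : (up (0 : F) : SpecialLinearGroup (Fin 2) F) = 1 := by
      apply Subtype.ext
      show (!![1, 0; 0, 1] : Matrix (Fin 2) (Fin 2) F) = 1
      rw [Matrix.one_fin_two]
    rw [h3, h4, map_mul, map_mul, h1, mul_one, ← map_mul, inv_mul_cancel]
  exact hc (neg_eq_zero.1 (S.inj h2))

include R in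
theorem SLN.injective [Finite W] [CharP F 2] (S : SLN T n X i F Φ) : Function.Injective Φ := by
  have hup0 : (up (0 : F) : SpecialLinearGroup (Fin 2) F) = 1 := by
    apply Subtype.ext
    show (!![1, 0; 0, 1] : Matrix (Fin 2) (Fin 2) F) = 1
    rw [Matrix.one_fin_two]
  have key : ∀ g : SpecialLinearGroup (Fin 2) F, Φ g = 1 → (g : Matrix (Fin 2) (Fin 2) F) 1 0 = 0 := by
    intro g hg
    by_contra hc
    have h1 := congrArg Φ (eq_up_lo_up g hc)
    rw [hg, map_mul, map_mul] at h1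
    generalize ((g : Matrix (Fin 2) (Fin 2) F) 0 0 - 1) / (g : Matrix (Fin 2) (Fin 2) F) 1 0 = x at h1
    generalize ((g : Matrix (Fin 2) (Fin 2) F) 1 1 - 1) / (g : Matrix (Fin 2) (Fin 2) F) 1 0 = y at h1
    have h2 : Φ (lo ((g : Matrix (Fin 2) (Fin 2) F) 1 0)) = (Φ (up x))⁻¹ * (Φ (up y))⁻¹ := by
      calc Φ (lo ((g : Matrix (Fin 2) (Fin 2) F) 1 0)) =
          (Φ (up x))⁻¹ * (Φ (up x) * Φ (lo ((g : Matrix (Fin 2) (Fin 2) F) 1 0)) * Φ (up y)) * (Φ (up y))⁻¹ := by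
            group
        _ = _ := by rw [← h1, mul_one]
    obtain ⟨z, hz⟩ := (S.mem _).1 (mul_mem (inv_mem (S.up_mem x)) (inv_mem (S.up_mem y)))
    exact S.lo_ne R hc (h2.trans hz)
  rw [injective_iff_map_eq_one]
  intro g hg
  have hc := key g hg
  have hb : (g : Matrix (Fin 2) (Fin 2) F) 0 1 = 0 := by
    have h1 := key (wS 1 * g * (wS 1)⁻¹) (by rw [map_mul, map_mul, hg, mul_one, ← map_mul, mul_inv_cancel, map_one])
    have h2 : ((wS 1 * g * (wS 1)⁻¹ : SpecialLinearGroup (Fin 2) F) : Matrix (Fin 2) (Fin 2) F) 1 0 =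
        -(g : Matrix (Fin 2) (Fin 2) F) 0 1 := by
      rw [Matrix.SpecialLinearGroup.coe_mul, Matrix.SpecialLinearGroup.coe_mul, Matrix.SpecialLinearGroup.coe_inv,
        coe_wS one_ne_zero, Matrix.adjugate_fin_two, Matrix.eta_fin_two (g : Matrix (Fin 2) (Fin 2) F)]
      simp [Matrix.mul_apply, Fin.sum_univ_two]
    rw [h2] at h1
    exact neg_eq_zero.1 h1
  have hdet : (g : Matrix (Fin 2) (Fin 2) F) 0 0 * (g : Matrix (Fin 2) (Fin 2) F) 1 1 -
      (g : Matrix (Fin 2) (Fin 2) F) 0 1 * (g : Matrix (Fin 2) (Fin 2) F) 1 0 = 1 := by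
    rw [← Matrix.det_fin_two]
    exact g.2
  rw [hb, zero_mul, sub_zero] at hdet
  have ha0 : (g : Matrix (Fin 2) (Fin 2) F) 0 0 ≠ 0 := by
    intro h0
    rw [h0, zero_mul] at hdet
    exact zero_ne_one hdet
  have hgS : g = hS ((g : Matrix (Fin 2) (Fin 2) F) 0 0) := by
    apply Subtype.ext
    rw [coe_hS ha0, Matrix.eta_fin_two (g : Matrix (Fin 2) (Fin 2) F), hb, hc]
    have : (g : Matrix (Fin 2) (Fin 2) F) 1 1 = ((g : Matrix (Fin 2) (Fin 2) F) 0 0)⁻¹ :=
      eq_inv_of_mul_eq_one_right hdet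
    rw [this]
    rfl
  have h3 := hS_mul_up ha0 1
  rw [← hgS] at h3
  have h4 := congrArg Φ h3
  rw [map_mul, map_mul, hg, one_mul, mul_one, mul_one] at h4
  have h5 : (1 : F) = _ := S.inj h4
  have h6 : ((g : Matrix (Fin 2) (Fin 2) F) 0 0 - 1) ^ 2 = 0 := by
    have h2 : (2 : F) = 0 := by
      have := CharP.cast_eq_zero F 2
      exact_mod_cast this
    linear_combination -h5 + (1 - (g : Matrix (Fin 2) (Fin 2) F) 0 0) * h2
  have h7 : (g : Matrix (Fin 2) (Fin 2) F) 0 0 = 1 := sub_eq_zero.1 (pow_eq_zero_iff (two_ne_zero)|>.1 h6)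
  rw [hgS, h7]
  apply Subtype.ext
  rw [coe_hS one_ne_zero, inv_one]
  exact Matrix.one_fin_two.symm

/-- the isomorphism -/
noncomputable def SLN.equiv [Finite W] [CharP F 2] (S : SLN T n X i F Φ) :
    SpecialLinearGroup (Fin 2) F ≃* ↥(MJ cs h X {i}) :=
  (MonoidHom.ofInjective (S.injective R)).trans (MulEquiv.subgroupCongr (S.range R))

theorem SLN.coe_equiv [Finite W] [CharP F 2] (S : SLN T n X i F Φ)
    (g : SpecialLinearGroup (Fin 2) F) : ((S.equiv R g : ↥(MJ cs h X {i})) : Y) = Φ g := rfl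

include R in
theorem SLN.normal [Finite W] [Finite F] [CharP F 2] (hF : 3 < Nat.card F) (S : SLN T n X i F Φ)
    (N : Subgroup ↥(MJ cs h X {i})) [hN : N.Normal] : N = ⊥ ∨ N = ⊤ := by
  have h1 : (N.comap (S.equiv R).toMonoidHom).Normal := hN.comap _
  rcases sl_normal hF (N.comap (S.equiv R).toMonoidHom) with h2 | h2
  · left
    rw [Subgroup.eq_bot_iff_forall]
    intro x hx
    obtain ⟨g, rfl⟩ := (S.equiv R).surjective x
    have h3 : g ∈ N.comap (S.equiv R).toMonoidHom := hx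
    rw [h2, Subgroup.mem_bot] at h3
    rw [h3, map_one]
  · right
    rw [eq_top_iff]
    intro x _
    obtain ⟨g, rfl⟩ := (S.equiv R).surjective x
    have h3 : g ∈ N.comap (S.equiv R).toMonoidHom := by rw [h2]; exact Subgroup.mem_top _
    exact h3

include R in
theorem SLN.center [Finite W] [CharP F 2] (S : SLN T n X i F Φ) {z : Y} (hz : z ∈ MJ cs h X {i})
    (hc : ∀ m ∈ MJ cs h X {i}, z * m = m * z) : z = 1 := by
  obtain ⟨x, hx⟩ := (S.equiv R).surjective ⟨z, hz⟩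
  have hneg : (-1 : SpecialLinearGroup (Fin 2) F) = 1 := by
    apply Subtype.ext
    ext i j
    have h2 : (-1 : F) = 1 := by
      have : (2 : F) = 0 := by
        have := CharP.cast_eq_zero F 2
        exact_mod_cast this
      rw [neg_eq_iff_add_eq_zero, one_add_one_eq_two, this]
    fin_cases i <;> fin_cases j <;> simp [h2]
  have h1 : x ∈ Subgroup.center (SpecialLinearGroup (Fin 2) F) := by
    rw [Subgroup.mem_center_iff]
    intro g
    apply (S.equiv R).injective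
    rw [map_mul, map_mul, hx]
    exact Subtype.ext (hc _ (S.equiv R g).2).symm
  have h2 : x = 1 := by
    rcases ClassicalGeometry.PSL2Basic.mem_center_SL2_iff.1 h1 with h1 | h1
    · exact h1
    · rw [h1, hneg]
  rw [h2, map_one] at hx
  exact (congrArg Subtype.val hx).symm

include R in
/-- `T` acts on `MJ {i}` by inner automorphisms. -/
theorem SLN.inner [Finite W] [Finite F] [CharP F 2] (S : SLN T n X i F Φ)
    (hsc : ∀ t ∈ T, ∃ c : F, c ≠ 0 ∧ ∀ a, t * Φ (up a) * t⁻¹ = Φ (up (c * a))) {t : Y} (ht : t ∈ T) :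
    ∃ m ∈ MJ cs h X {i}, m ∈ T ∧ ∀ x ∈ MJ cs h X {i}, t * x * t⁻¹ = m * x * m⁻¹ := by
  obtain ⟨c, hc0, hc⟩ := hsc t ht
  have : Fintype F := Fintype.ofFinite F
  obtain ⟨d, hd⟩ : IsSquare c := FiniteField.isSquare_of_char_two (ringChar.eq F 2) _
  have hd0 : d ≠ 0 := by
    rintro rfl
    rw [mul_zero] at hd
    exact hc0 hd
  have hm : Φ (hS d) ∈ T := S.tor d hd0
  have hmM : Φ (hS d) ∈ MJ cs h X {i} := by rw [← S.range R]; exact ⟨_, rfl⟩
  refine ⟨Φ (hS d), hmM, hm, ?_⟩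
  set m := Φ (hS d) with hmdef
  have h1 : ∀ u ∈ X (sr i), (m⁻¹ * t) * u = u * (m⁻¹ * t) := by
    intro u hu
    obtain ⟨a, rfl⟩ := (S.mem _).1 hu
    have h2 : m * Φ (up a) * m⁻¹ = Φ (up (c * a)) := by
      rw [hmdef, ← map_inv, ← map_mul, ← map_mul, hS_up hd0, hd]
    have h3 : m * Φ (up a) * m⁻¹ = t * Φ (up a) * t⁻¹ := h2.trans (hc a).symm
    calc m⁻¹ * t * Φ (up a) = m⁻¹ * (t * Φ (up a) * t⁻¹) * t := by group
      _ = m⁻¹ * (m * Φ (up a) * m⁻¹) * t := by rw [h3]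
      _ = Φ (up a) * (m⁻¹ * t) := by group
  have h2 := cen_neg R (mul_mem (inv_mem hm) ht) h1
  have h3 : MJ cs h X {i} ≤ Subgroup.centralizer {m⁻¹ * t} := by
    rw [MJ_single]
    refine sup_le (fun u hu => ?_) (fun u hu => ?_)
    · rw [Subgroup.mem_centralizer_singleton_iff]
      exact (h1 u hu).symm
    · rw [Subgroup.mem_centralizer_singleton_iff]
      exact (h2 u hu).symm
  intro x hx
  have h4 := Subgroup.mem_centralizer_singleton_iff.1 (h3 hx)
  have h5 : t * x = m * x * m⁻¹ * t := by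
    calc t * x = m * ((m⁻¹ * t) * x) := by group
      _ = m * (x * (m⁻¹ * t)) := by rw [h4]
      _ = m * x * m⁻¹ * t := by group
  rw [h5, mul_inv_cancel_right]

end Cfsg.Agent.H643.Gow.Node
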