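import Mathlib
import Cfsg.Agent.H643.Gow.Node
import Cfsg.Agent.H627.Gow.Rgd
import Cfsg.Agent.H641.Gow.Real

/-!
# Rational characters of odd degree from cuspidal characters of two orthogonal rank one subgroups (helper643, S4913)

`R : RGD cs h p T n X`, `i`, `j` orthogonal nodes with rank one subgroups `SL₂(F)`, `SL₂(F')`, characteristic two.

* `SLN.conj` : conjugation by an element over `w`, `w α_i = α_i`, on `SL₂(F)`;
* `ratOdd_two` : `χ ⊗ θ`, `χ` rational valued, `θ` with one Galois conjugate `θ ∘ φ`, and an element inducing `φ`.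
-/

set_option autoImplicit false
set_option linter.unusedSectionVars false

open Cfsg

namespace Cfsg.Agent.H643.Gow.Node

open CoxeterSystem Cfsg.Agent.ChevalleyStructure.CoxeterGeom Cfsg.Agent.Tits.Roots Cfsg.Agent.Tits.Core
  Cfsg.Agent.Tits.Exchange Cfsg.Agent.Nodes.Reps Cfsg.Agent.Nodes.BNOf Cfsg.Agent.Nodes.StabComb
  Cfsg.Agent.Nodes.Bruhat Cfsg.Agent.Nodes.OppDec Cfsg.Agent.Nodes.LeviDec Cfsg.Agent.H53.HC Cfsg.Agent.H115.HC
  Cfsg.Agent.ChevalleyStructure.SL2Hom Cfsg.Agent.Nodes.RGDFoldSL Matrix Cfsg.Agent.Characters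

variable {I W Y : Type*} [Fintype I] [DecidableEq I] [Group W] [Group Y] {M : CoxeterMatrix I}
  {cs : CoxeterSystem M W} {A : I → I → ℤ} {h : IsCartan M A} {p : ℕ} {T : Subgroup Y} {n : I → Y}
  {X : (I → ℤ) → Subgroup Y}

variable {i j : I} {F F' : Type*} [Field F] [Field F'] {Φ : SpecialLinearGroup (Fin 2) F →* Y}
  {Φ' : SpecialLinearGroup (Fin 2) F' →* Y}

theorem wS_mul_up {a : F} (ha : a ≠ 0) (b : F) : wS a * up b = lo (-(a⁻¹ * a⁻¹ * b)) * wS a := by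
  apply Subtype.ext
  rw [Matrix.SpecialLinearGroup.coe_mul, Matrix.SpecialLinearGroup.coe_mul, coe_wS ha]
  show _ * (!![1, b; 0, 1] : Matrix (Fin 2) (Fin 2) F) = !![1, 0; -(a⁻¹ * a⁻¹ * b), 1] * _
  ext i j
  fin_cases i <;> fin_cases j <;> simp [Matrix.mul_apply, Fin.sum_univ_two]
  field_simp

/-- a product `up x lo y up x` which conjugates an element `up b`, `b ≠ 0`, to a lower matrix, is `wS x` -/
theorem eq_wS {x y b z : F} (hb : b ≠ 0) (he : up x * (lo y * up x) * up b = lo z * (up x * (lo y * up x))) :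
    1 + x * y = 0 := by
  have h1 := congrArg Subtype.val he
  have h2 : ((!![1, x; 0, 1] * (!![1, 0; y, 1] * !![1, x; 0, 1]) * !![1, b; 0, 1] : Matrix (Fin 2) (Fin 2) F)) =
      ((!![1, 0; z, 1] * (!![1, x; 0, 1] * (!![1, 0; y, 1] * !![1, x; 0, 1])) : Matrix (Fin 2) (Fin 2) F)) := h1
  have h3 := congrFun (congrFun h2 0) 1
  simp [Matrix.mul_apply, Fin.sum_univ_two] at h3
  exact h3.resolve_right hb

variable (R : RGD cs h p T n X)

include R in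
/-- conjugation by an element over `w`, `w α_i = α_i` -/
theorem SLN.conj [Finite W] [Finite F] [CharP F 2] (S : SLN T n X i F Φ) {w : W} {g : Y} (hg : Rp cs R.nsys w g)
    (hw : rep cs h w (sr i) = sr i) (ψ : F ≃+* F) {c : F} (hc : c ≠ 0)
    (hgc : ∀ a, g⁻¹ * Φ (up a) * g = Φ (up (c * ψ a))) :
    ∃ d : F, d ≠ 0 ∧ ∀ x, g⁻¹ * Φ x * g = Φ (hS d * SpecialLinearGroup.map (ψ : F →+* F) x * (hS d)⁻¹) := by
  have : Fintype F := Fintype.ofFinite F
  obtain ⟨d, hd⟩ : IsSquare c := FiniteField.isSquare_of_char_two (ringChar.eq F 2) _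
  have hd0 : d ≠ 0 := by
    rintro rfl
    rw [mul_zero] at hd
    exact hc hd
  refine ⟨d, hd0, ?_⟩
  -- the homomorphism
  let Ψ : SpecialLinearGroup (Fin 2) F →* Y := (MulAut.conj (g * Φ (hS d))⁻¹).toMonoidHom.comp Φ
  have hΨ : ∀ x, Ψ x = (Φ (hS d))⁻¹ * (g⁻¹ * Φ x * g) * Φ (hS d) := by
    intro x
    show (g * Φ (hS d))⁻¹ * Φ x * ((g * Φ (hS d))⁻¹)⁻¹ = _
    group
  have hup : ∀ a, Ψ (up a) = Φ (up (ψ a)) := by
    intro a
    rw [hΨ, hgc]
    have h1 := congrArg Φ (hS_mul_up hd0 (ψ a))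
    rw [map_mul, map_mul, ← hd] at h1
    rw [mul_assoc, ← h1, inv_mul_cancel_left]
  have hlo : ∀ a, ∃ b, Ψ (lo a) = Φ (lo b) := by
    intro a
    have h1 : g⁻¹ * Φ (lo a) * g ∈ X (-sr i) := by
      have h2 := R.conj_mem' hg (isRoot_sr cs h i).neg ((S.mem_neg R _).2 ⟨a, rfl⟩)
      have h3 : rep cs h w⁻¹ (sr i) = sr i := by
        conv_lhs => rw [← hw]
        exact rep_inv_apply cs h w (sr i)
      rwa [map_neg, h3] at h2
    have h2 : (Φ (hS d))⁻¹ * (g⁻¹ * Φ (lo a) * g) * Φ (hS d) ∈ X (-sr i) := by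
      have h3 := R.tor _ (isRoot_sr cs h i).neg _ (inv_mem (S.tor d hd0))
      have h4 : (Φ (hS d))⁻¹ * (g⁻¹ * Φ (lo a) * g) * ((Φ (hS d))⁻¹)⁻¹ ∈ cj (Φ (hS d))⁻¹ (X (-sr i)) :=
        conj_mem_cj.2 h1
      rwa [h3, inv_inv] at h4
    rw [hΨ]
    exact (S.mem_neg R _).1 h2
  choose f hf using hlo
  have hf1 : ∀ a, a ≠ 0 → f a = ψ a := by
    intro a ha
    have h1 := wS_mul_up (a := -a⁻¹) (neg_ne_zero.2 (inv_ne_zero ha)) 1
    have h2 := congrArg Ψ h1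
    have h3 : Ψ (wS (-a⁻¹)) = Φ (up (ψ (-a⁻¹)) * (lo (f a) * up (ψ (-a⁻¹)))) := by
      unfold wS
      rw [map_mul, map_mul, hup, map_mul, map_mul]
      have : -(-a⁻¹)⁻¹ = a := by rw [inv_neg, inv_inv, neg_neg]
      rw [this, hf]
    rw [map_mul, map_mul, h3, hup, hf, ← map_mul, ← map_mul] at h2
    have h4 := eq_wS (by rw [map_one]; exact one_ne_zero) (S.injective R h2)
    rw [map_neg, map_inv₀] at h4
    have ha' : ψ a ≠ 0 := (map_ne_zero ψ).2 ha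
    field_simp at h4
    linear_combination -h4
  have hlo' : ∀ a, Ψ (lo a) = Φ (lo (ψ a)) := by
    intro a
    by_cases ha : a = 0
    · have : (lo (0 : F) : SpecialLinearGroup (Fin 2) F) = 1 := by
        apply Subtype.ext
        show (!![1, 0; 0, 1] : Matrix (Fin 2) (Fin 2) F) = 1
        rw [Matrix.one_fin_two]
      rw [ha, map_zero, this, map_one, map_one]
    · rw [hf, hf1 a ha]
  have hall : ∀ x, Ψ x = Φ (SpecialLinearGroup.map (ψ : F →+* F) x) := by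
    intro x
    have h1 := mem_closure_SL2 x
    have h2 : Subgroup.closure (Set.range (up (F := F)) ∪ Set.range (lo (F := F))) ≤
        MonoidHom.eqLocus Ψ (Φ.comp (SpecialLinearGroup.map (ψ : F →+* F))) := by
      rw [Subgroup.closure_le]
      rintro _ (⟨a, rfl⟩ | ⟨a, rfl⟩)
      · change Ψ (up a) = Φ (SpecialLinearGroup.map (ψ : F →+* F) (up a))
        rw [hup, map_up]
        rfl
      · change Ψ (lo a) = Φ (SpecialLinearGroup.map (ψ : F →+* F) (lo a))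
        rw [hlo', map_lo]
        rfl
    exact h2 h1
  intro x
  rw [map_mul, map_mul, map_inv, ← hall x, hΨ]
  group

/-- the action of the Levi subgroup on a component -/
structure Act (cs : CoxeterSystem M W) (h : IsCartan M A) (T : Subgroup Y) (X : (I → ℤ) → Subgroup Y) (J K K' : Set I)
    (c : ↥(LJ cs h T X J) →* ↥(MJ cs h X K)) : Prop where
  fix : ∀ m (hm : m ∈ MJ cs h X K) (hm' : m ∈ LJ cs h T X J), c ⟨m, hm'⟩ = ⟨m, hm⟩
  kill : ∀ m (_ : m ∈ MJ cs h X K') (hm' : m ∈ LJ cs h T X J), c ⟨m, hm'⟩ = 1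
  act : ∀ l (hl : l ∈ LJ cs h T X J), ∀ m ∈ MJ cs h X K, l * m * l⁻¹ = c ⟨l, hl⟩ * m * (c ⟨l, hl⟩ : Y)⁻¹

include R in
theorem exists_act [Finite W] {J K K' : Set I} (hJ : J = K ∪ K') (ho : Orth A K K')
    (hcen : ∀ z ∈ MJ cs h X K, (∀ m ∈ MJ cs h X K, z * m = m * z) → z = 1)
    (hin : ∀ t ∈ T, ∃ a ∈ MJ cs h X K, ∀ m ∈ MJ cs h X K, t * m * t⁻¹ = a * m * a⁻¹) :
    ∃ c : ↥(LJ cs h T X J) →* ↥(MJ cs h X K), Act cs h T X J K K' c := by
  have hin' : ∀ t ∈ LJ cs h T X J, ∃ a ∈ MJ cs h X K, ∀ m ∈ MJ cs h X K, t * m * t⁻¹ = a * m * a⁻¹ := by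
    rw [hJ]
    exact H627.Gow.inner_of_torus R ho hin
  obtain ⟨c, hc⟩ := H627.Gow.exists_inner_hom (LJ cs h T X J) (MJ cs h X K) hcen hin'
  refine ⟨c, ⟨fun m hm hm' => hc ⟨m, hm'⟩ m hm fun _ _ => rfl, fun m hm hm' => ?_, fun l hl m hm => ?_⟩⟩
  · refine hc ⟨m, hm'⟩ 1 (one_mem _) fun x hx => ?_
    have h2 := ho.comm R x hx m hm
    calc m * x * m⁻¹ = x * m * m⁻¹ := by rw [h2]
      _ = 1 * x * 1⁻¹ := by group
  · obtain ⟨a, ha, h1⟩ := hin' l hl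
    rw [hc ⟨l, hl⟩ a ha h1]
    exact h1 m hm

/-- conjugation by an element normalising `MJ K` -/
theorem Act.conj {J K K' : Set I} {c : ↥(LJ cs h T X J) →* ↥(MJ cs h X K)} (hc : Act cs h T X J K K' c)
    (hcen : ∀ z ∈ MJ cs h X K, (∀ m ∈ MJ cs h X K, z * m = m * z) → z = 1) {g : Y}
    (hg : ∀ m ∈ MJ cs h X K, g⁻¹ * m * g ∈ MJ cs h X K) (hg' : ∀ m ∈ MJ cs h X K, g * m * g⁻¹ ∈ MJ cs h X K)
    {l : Y} (hl : l ∈ LJ cs h T X J) (hl' : g⁻¹ * l * g ∈ LJ cs h T X J) :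
    ((c ⟨g⁻¹ * l * g, hl'⟩ : ↥(MJ cs h X K)) : Y) = g⁻¹ * (c ⟨l, hl⟩ : Y) * g := by
  have h1 : (g⁻¹ * (c ⟨l, hl⟩ : Y) * g)⁻¹ * (c ⟨g⁻¹ * l * g, hl'⟩ : Y) = 1 := by
    refine hcen _ (mul_mem (inv_mem (hg _ (c ⟨l, hl⟩).2)) (c ⟨g⁻¹ * l * g, hl'⟩).2) fun m hm => ?_
    have h2 := hc.act _ hl' m hm
    have h3 := hc.act l hl _ (hg' m hm)
    have h4 : (c ⟨g⁻¹ * l * g, hl'⟩ : Y) * m * (c ⟨g⁻¹ * l * g, hl'⟩ : Y)⁻¹ =
        (g⁻¹ * (c ⟨l, hl⟩ : Y) * g) * m * (g⁻¹ * (c ⟨l, hl⟩ : Y) * g)⁻¹ := by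
      rw [← h2]
      calc g⁻¹ * l * g * m * (g⁻¹ * l * g)⁻¹ = g⁻¹ * (l * (g * m * g⁻¹) * l⁻¹) * g := by group
        _ = _ := by rw [h3]; group
    have h5 : (c ⟨g⁻¹ * l * g, hl'⟩ : Y) * m =
        (g⁻¹ * (c ⟨l, hl⟩ : Y) * g) * m * (g⁻¹ * (c ⟨l, hl⟩ : Y) * g)⁻¹ * (c ⟨g⁻¹ * l * g, hl'⟩ : Y) := by
      rw [← h4]; group
    rw [mul_assoc, h5]
    group
  exact (inv_mul_eq_one.1 h1).symm

/-- the values of the character transported to `MJ {i}` -/
theorem SLN.symm_conj [Finite W] [CharP F 2] (S : SLN T n X i F Φ) {χ : SpecialLinearGroup (Fin 2) F → ℂ}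
    (hχ : IsClassFunction _ χ) (ψ : F ≃+* F) {g : Y} {d : F}
    (hd : ∀ x, g⁻¹ * Φ x * g = Φ (hS d * SpecialLinearGroup.map (ψ : F →+* F) x * (hS d)⁻¹))
    {m m' : ↥(MJ cs h X {i})} (hm : (m' : Y) = g⁻¹ * m * g) :
    χ ((S.equiv R).symm m') = χ (SpecialLinearGroup.map (ψ : F →+* F) ((S.equiv R).symm m)) := by
  have h1 : (S.equiv R).symm m' = hS d * SpecialLinearGroup.map (ψ : F →+* F) ((S.equiv R).symm m) * (hS d)⁻¹ := by
    rw [MulEquiv.symm_apply_eq]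
    apply Subtype.ext
    rw [SLN.coe_equiv, ← hd, hm, ← SLN.coe_equiv R S, MulEquiv.apply_symm_apply]
  rw [h1]
  exact hχ _ _

theorem perm_single {w : W} (hw : rep cs h w (sr i) = sr i) : Perm cs h {i} w := by
  have h1 : rep cs h w⁻¹ (sr i) = sr i := by
    conv_lhs => rw [← hw]
    exact rep_inv_apply cs h w (sr i)
  constructor
  · intro k hk
    rw [Set.mem_singleton_iff.1 hk]
    exact ⟨i, rfl, h1⟩
  · intro k hk
    rw [Set.mem_singleton_iff.1 hk]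
    exact ⟨i, rfl, hw⟩

theorem perm_two {w : W} (hw : rep cs h w (sr i) = sr i) (hw' : rep cs h w (sr j) = sr j) :
    Perm cs h ({i} ∪ {j}) w := by
  have h1 := perm_single hw
  have h2 := perm_single hw'
  constructor
  · rintro k (rfl | rfl)
    · obtain ⟨_, rfl, e⟩ := h1.1 k rfl
      exact ⟨_, Or.inl rfl, e⟩
    · obtain ⟨_, rfl, e⟩ := h2.1 k rfl
      exact ⟨_, Or.inr rfl, e⟩
  · rintro k (rfl | rfl)
    · exact ⟨k, Or.inl rfl, hw⟩
    · exact ⟨k, Or.inr rfl, hw'⟩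

theorem rad_single (i : I) : rad cs h X {i} i = X (sr i) := by
  unfold rad PosRad
  apply le_antisymm
  · refine RGD.Sup_le fun z hz => ?_
    have h1 : z ∈ PosJ cs h {i} := hz.1
    rw [PosJ_single] at h1
    rw [Set.mem_singleton_iff.1 h1]
  · refine RGD.le_Sup ⟨?_, ?_⟩
    · rw [PosJ_single]; exact Set.mem_singleton _
    · rw [sr_self]; exact one_pos

/-- the sum over the root group -/
theorem sum_root (S : SLN T n X i F Φ) [Fintype F] [Fintype ↥(X (sr i))] (f : Y → ℂ) :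
    ∑ u : ↥(X (sr i)), f u = ∑ a : F, f (Φ (up a)) := by
  refine (Fintype.sum_equiv (Equiv.ofBijective (fun a : F => (⟨Φ (up a), S.up_mem a⟩ : ↥(X (sr i)))) ⟨?_, ?_⟩)
    (fun a => f (Φ (up a))) (fun u => f u) fun a => rfl).symm
  · intro a b hab
    exact S.inj (congrArg Subtype.val hab)
  · rintro ⟨g, hg⟩
    obtain ⟨a, rfl⟩ := (S.mem g).1 hg
    exact ⟨a, rfl⟩

/-- the character of the Levi subgroup -/
noncomputable def two [Finite W] [CharP F 2] [CharP F' 2] (S : SLN T n X i F Φ) (S' : SLN T n X j F' Φ')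
    (c : ↥(LJ cs h T X ({i} ∪ {j})) →* ↥(MJ cs h X {i})) (c' : ↥(LJ cs h T X ({i} ∪ {j})) →* ↥(MJ cs h X {j}))
    (χ : SpecialLinearGroup (Fin 2) F → ℂ) (θ : SpecialLinearGroup (Fin 2) F' → ℂ) : ↥(LJ cs h T X ({i} ∪ {j})) → ℂ :=
  fun l => χ ((S.equiv R).symm (c l)) * θ ((S'.equiv R).symm (c' l))

section two

variable [Finite W] [Finite F] [Finite F'] [CharP F 2] [CharP F' 2] (S : SLN T n X i F Φ) (S' : SLN T n X j F' Φ')
  {c : ↥(LJ cs h T X ({i} ∪ {j})) →* ↥(MJ cs h X {i})} {c' : ↥(LJ cs h T X ({i} ∪ {j})) →* ↥(MJ cs h X {j})}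
  {χ : SpecialLinearGroup (Fin 2) F → ℂ} {θ : SpecialLinearGroup (Fin 2) F' → ℂ}

theorem MJ_le_left' : MJ cs h X {i} ≤ LJ cs h T X ({i} ∪ {j}) :=
  le_trans (H627.Gow.MJ_mono Set.subset_union_left) (MJ_le_LJ _)

theorem MJ_le_right' : MJ cs h X {j} ≤ LJ cs h T X ({i} ∪ {j}) :=
  le_trans (H627.Gow.MJ_mono Set.subset_union_right) (MJ_le_LJ _)

theorem two_surj (hc : Act cs h T X ({i} ∪ {j}) {i} {j} c) (hc' : Act cs h T X ({i} ∪ {j}) {j} {i} c') :
    Function.Surjective (c.prod c') := by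
  rintro ⟨⟨m, hm⟩, ⟨m', hm'⟩⟩
  refine ⟨⟨m, MJ_le_left' hm⟩ * ⟨m', MJ_le_right' hm'⟩, ?_⟩
  rw [MonoidHom.prod_apply, map_mul, map_mul, hc.fix m hm, hc.kill m' hm', hc'.kill m hm, hc'.fix m' hm', mul_one,
    one_mul]

theorem two_irr [Finite Y] (hc : Act cs h T X ({i} ∪ {j}) {i} {j} c) (hc' : Act cs h T X ({i} ∪ {j}) {j} {i} c')
    (hχ : IsIrrCharacter _ χ) (hθ : IsIrrCharacter _ θ) : IsIrrCharacter _ (two R S S' c c' χ θ) := by
  have h1 := Cfsg.Agent.S0188.isIrr_outer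
    (Core.isIrr_comp (S.equiv R).symm.toMonoidHom (S.equiv R).symm.surjective hχ)
    (Core.isIrr_comp (S'.equiv R).symm.toMonoidHom (S'.equiv R).symm.surjective hθ)
  exact Core.isIrr_comp (c.prod c') (two_surj hc hc') h1

theorem two_cusp [Fintype F] [Fintype F'] (ho : Orth A {i} {j}) (hc : Act cs h T X ({i} ∪ {j}) {i} {j} c)
    (hc' : Act cs h T X ({i} ∪ {j}) {j} {i} c')
    (hχs : ∑ a : F, χ (up a) = 0) (hθs : ∑ a : F', θ (up a) = 0) :
    H641.Gow.CuspL cs h T X ({i} ∪ {j}) (two R S S' c c' χ θ) := by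
  classical
  intro k hk _
  let f : Y → ℂ := fun y => if hy : y ∈ LJ cs h T X ({i} ∪ {j}) then two R S S' c c' χ θ ⟨y, hy⟩ else 0
  have hf : ∀ y (hy : y ∈ LJ cs h T X ({i} ∪ {j})), f y = two R S S' c c' χ θ ⟨y, hy⟩ := fun y hy => dif_pos hy
  rcases hk with rfl | rfl
  · have e : rad cs h X ({k} ∪ {j}) k = X (sr k) := by
      rw [ho.rad_eq (Set.mem_singleton k), rad_single]
    have : Fintype ↥(X (sr k)) := Fintype.ofEquiv _ (MulEquiv.subgroupCongr e).toEquiv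
    have h1 : ∑ u : rad cs h X ({k} ∪ {j}) k, two R S S' c c' χ θ ⟨u, rad_le_LJ _ k u.2⟩ = ∑ u : ↥(X (sr k)), f u :=
      Fintype.sum_equiv (MulEquiv.subgroupCongr e).toEquiv _ _ fun u => (hf _ _).symm
    rw [h1, sum_root S]
    have h2 : ∀ a : F, f (Φ (up a)) = χ (up a) * θ 1 := by
      intro a
      have hm : Φ (up a) ∈ MJ cs h X {k} := by rw [← S.range R]; exact ⟨_, rfl⟩
      rw [hf _ (MJ_le_left' hm)]
      unfold two
      rw [hc.fix _ hm, hc'.kill _ hm, map_one]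
      congr 2
      rw [MulEquiv.symm_apply_eq]
      exact Subtype.ext rfl
    rw [Finset.sum_congr rfl fun a _ => h2 a, ← Finset.sum_mul, hχs, zero_mul]
  · have e : rad cs h X ({i} ∪ {k}) k = X (sr k) := by
      rw [Set.union_comm, ho.symm.rad_eq (Set.mem_singleton k), rad_single]
    have : Fintype ↥(X (sr k)) := Fintype.ofEquiv _ (MulEquiv.subgroupCongr e).toEquiv
    have h1 : ∑ u : rad cs h X ({i} ∪ {k}) k, two R S S' c c' χ θ ⟨u, rad_le_LJ _ k u.2⟩ = ∑ u : ↥(X (sr k)), f u :=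
      Fintype.sum_equiv (MulEquiv.subgroupCongr e).toEquiv _ _ fun u => (hf _ _).symm
    rw [h1, sum_root S']
    have h2 : ∀ a : F', f (Φ' (up a)) = χ 1 * θ (up a) := by
      intro a
      have hm : Φ' (up a) ∈ MJ cs h X {k} := by rw [← S'.range R]; exact ⟨_, rfl⟩
      rw [hf _ (MJ_le_right' hm)]
      unfold two
      rw [hc'.fix _ hm, hc.kill _ hm, map_one]
      congr 2
      rw [MulEquiv.symm_apply_eq]
      exact Subtype.ext rfl
    rw [Finset.sum_congr rfl fun a _ => h2 a, ← Finset.mul_sum, hθs, mul_zero]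

end two

/-- **Rational characters of odd degree from two orthogonal rank one subgroups.** -/
theorem ratOdd_two [Finite W] [Finite Y] [Fintype F] [Fintype F'] [CharP F 2] [CharP F' 2]
    (hG : GG cs h T X = ⊤) (hij : Orth A {i} {j}) (S : SLN T n X i F Φ) (S' : SLN T n X j F' Φ')
    (hsc : ∀ t ∈ T, ∃ c : F, c ≠ 0 ∧ ∀ a, t * Φ (up a) * t⁻¹ = Φ (up (c * a)))
    (hsc' : ∀ t ∈ T, ∃ c : F', c ≠ 0 ∧ ∀ a, t * Φ' (up a) * t⁻¹ = Φ' (up (c * a)))
    {χ : SpecialLinearGroup (Fin 2) F → ℂ} (hχ : IsIrrCharacter _ χ) (hχr : ∀ (σ : ℂ ≃+* ℂ) x, σ (χ x) = χ x)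
    {d : ℕ} (hd : Odd d) (hχ1 : χ 1 = d) (hχs : ∑ a : F, χ (up a) = 0)
    {θ : SpecialLinearGroup (Fin 2) F' → ℂ} (hθ : IsIrrCharacter _ θ)
    {d' : ℕ} (hd' : Odd d') (hθ1 : θ 1 = d') (hθs : ∑ a : F', θ (up a) = 0)
    (φ : F' ≃+* F') (hφ : ∀ x, φ (φ x) = x)
    (hne : ∃ x, θ (SpecialLinearGroup.map (φ : F' →+* F') x) ≠ θ x)
    (hgal : ∀ σ : ℂ ≃+* ℂ, (∀ x, σ (θ x) = θ x) ∨ ∀ x, σ (θ x) = θ (SpecialLinearGroup.map (φ : F' →+* F') x))
    {u : W} {g : Y} (hg : Rp cs R.nsys u g) (hu : rep cs h u (sr i) = sr i) (hu' : rep cs h u (sr j) = sr j)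
    (ψ : F ≃+* F) (hψ : ∀ x, χ (SpecialLinearGroup.map (ψ : F →+* F) x) = χ x)
    {b : F} (hb : b ≠ 0) (hgb : ∀ a, g⁻¹ * Φ (up a) * g = Φ (up (b * ψ a)))
    {b' : F'} (hb' : b' ≠ 0) (hgb' : ∀ a, g⁻¹ * Φ' (up a) * g = Φ' (up (b' * φ a)))
    (hcard : {w : W | Perm cs h ({i} ∪ {j}) w}.ncard ≤ 4)
    (hodd : Odd (PJ cs h T X ({i} ∪ {j})).index) : Cfsg.Agent.H636.Gow.RatOdd Y := by
  classical
  have : Fintype Y := Fintype.ofFinite Y
  have hcen : ∀ z ∈ MJ cs h X {i}, (∀ m ∈ MJ cs h X {i}, z * m = m * z) → z = 1 := fun z hz hc => S.center R hz hc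
  have hcen' : ∀ z ∈ MJ cs h X {j}, (∀ m ∈ MJ cs h X {j}, z * m = m * z) → z = 1 :=
    fun z hz hc => S'.center R hz hc
  obtain ⟨c, hc⟩ := exists_act R (J := {i} ∪ {j}) rfl hij hcen (fun t ht => by
    obtain ⟨m, hm, -, h1⟩ := S.inner R hsc ht
    exact ⟨m, hm, h1⟩)
  obtain ⟨c', hc'⟩ := exists_act R (J := {i} ∪ {j}) (Set.union_comm _ _) hij.symm hcen' (fun t ht => by
    obtain ⟨m, hm, -, h1⟩ := S'.inner R hsc' ht
    exact ⟨m, hm, h1⟩)
  have hirr := two_irr R S S' hc hc' hχ hθ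
  have hcusp := two_cusp R S S' hij hc hc' hχs hθs
  -- the conjugate character
  have hθφ : IsIrrCharacter _ (fun x => θ (SpecialLinearGroup.map (φ : F' →+* F') x)) := by
    refine Core.isIrr_comp (SpecialLinearGroup.map (φ : F' →+* F')) (fun x => ?_) hθ
    refine ⟨SpecialLinearGroup.map (φ.symm : F' →+* F') x, ?_⟩
    apply Subtype.ext
    ext i j
    simp
  have hpu := perm_single hu
  have hpu' := perm_single hu'
  have htw : H641.Gow.Tw cs h T X ({i} ∪ {j}) (two R S S' c c' χ θ)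
      (two R S S' c c' χ fun x => θ (SpecialLinearGroup.map (φ : F' →+* F') x)) g := by
    intro l hl hl'
    obtain ⟨e, -, he⟩ := S.conj R hg hu ψ hb hgb
    obtain ⟨e', -, he'⟩ := S'.conj R hg hu' φ hb' hgb'
    have h1 := hc.conj hcen (fun m hm => conj_mem_MJ R hg hpu hm) (fun m hm => conj_mem_MJ' R hg hpu hm) hl hl'
    have h2 := hc'.conj hcen' (fun m hm => conj_mem_MJ R hg hpu' hm) (fun m hm => conj_mem_MJ' R hg hpu' hm) hl hl'
    unfold two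
    rw [S.symm_conj R (Core.isIrr_isClassFunction hχ) ψ he h1, hψ]
    have h3 := S'.symm_conj R (Core.isIrr_isClassFunction hθφ) φ he' h2
    simp only at h3 ⊢
    rw [h3]
    congr 2
    apply Subtype.ext
    ext i j
    simp [hφ]
  have hirr' := two_irr R S S' hc hc' hχ hθφ
  have hJ : (({i} ∪ {j} : Set I)).Nonempty := ⟨i, Or.inl rfl⟩
  refine H641.Gow.ratOdd_of_cusp R hG hJ hirr hcusp (hd.mul hd') ?_ hodd ?_ ?_
  · unfold two
    rw [map_one, map_one, map_one, map_one, hχ1, hθ1]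
    push_cast
    rfl
  · intro σ
    rcases hgal σ with h1 | h1
    · refine ⟨1, 1, rp_one, H641.Gow.Perm.one' cs h _, ?_⟩
      intro l hl hl'
      unfold two
      simp only [map_mul, hχr, h1]
      simp
    · refine ⟨u, g, hg, perm_two hu hu', ?_⟩
      intro l hl hl'
      rw [htw l hl hl']
      unfold two
      simp only [map_mul, hχr, h1]
  · -- the stabiliser
    have hdisj : Disjoint (H641.Gow.SS R ({i} ∪ {j}) (two R S S' c c' χ θ) (two R S S' c c' χ θ))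
        (H641.Gow.SS R ({i} ∪ {j}) (two R S S' c c' χ θ)
          (two R S S' c c' χ fun x => θ (SpecialLinearGroup.map (φ : F' →+* F') x))) := by
      rw [Set.disjoint_left]
      rintro w ⟨hw, g₁, hg₁, ht₁⟩ ⟨-, g₂, hg₂, ht₂⟩
      have ht₃ := H641.Gow.Tw.congr R (Core.isIrr_isClassFunction hirr') hg₂ hg₁ ht₂
      have heq : two R S S' c c' χ θ = two R S S' c c' χ fun x => θ (SpecialLinearGroup.map (φ : F' →+* F') x) := by
        funext l
        obtain ⟨l, hl⟩ := l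
        have h1 := H641.Gow.conj_mem_LJ' R hg₁ hw hl
        have h2 : g₁⁻¹ * (g₁ * l * g₁⁻¹) * g₁ ∈ LJ cs h T X ({i} ∪ {j}) := H641.Gow.conj_mem_LJ R hg₁ hw h1
        have h3 := ht₁ _ h1 h2
        have h4 := ht₃ _ h1 h2
        have h5 : (⟨l, hl⟩ : LJ cs h T X ({i} ∪ {j})) = ⟨g₁⁻¹ * (g₁ * l * g₁⁻¹) * g₁, h2⟩ :=
          Subtype.ext (by change l = g₁⁻¹ * (g₁ * l * g₁⁻¹) * g₁; group)
        rw [h5, ← h3, ← h4]
      obtain ⟨x, hx⟩ := hne
      apply hx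
      have hm : Φ' x ∈ MJ cs h X {j} := by rw [← S'.range R]; exact ⟨_, rfl⟩
      have h1 := congrFun heq ⟨Φ' x, MJ_le_right' hm⟩
      unfold two at h1
      have h2 : (S'.equiv R).symm ⟨Φ' x, hm⟩ = x := by
        rw [MulEquiv.symm_apply_eq]
        exact Subtype.ext rfl
      simp only [hc'.fix _ hm, hc.kill _ hm, h2, map_one] at h1
      have h3 : χ 1 ≠ 0 := by
        rw [hχ1]
        exact_mod_cast hd.pos.ne'
      exact (mul_left_cancel₀ h3 h1).symm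
    have h1 := H641.Gow.SS_image_right R (perm_two hu hu') hg htw
    have h2 : (H641.Gow.SS R ({i} ∪ {j}) (two R S S' c c' χ θ)
        (two R S S' c c' χ fun x => θ (SpecialLinearGroup.map (φ : F' →+* F') x))).ncard =
        (H641.Gow.SS R ({i} ∪ {j}) (two R S S' c c' χ θ) (two R S S' c c' χ θ)).ncard := by
      rw [h1, Set.ncard_image_of_injective _ (mul_left_injective u)]
    have h3 := Set.ncard_union_eq hdisj (Set.toFinite _) (Set.toFinite _)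
    have h4 : (H641.Gow.SS R ({i} ∪ {j}) (two R S S' c c' χ θ) (two R S S' c c' χ θ) ∪
        H641.Gow.SS R ({i} ∪ {j}) (two R S S' c c' χ θ)
          (two R S S' c c' χ fun x => θ (SpecialLinearGroup.map (φ : F' →+* F') x))) ⊆
        {w : W | Perm cs h ({i} ∪ {j}) w} := by
      rintro w (hw | hw)
      · exact hw.1
      · exact hw.1
    have h5 := Set.ncard_le_ncard h4 (Set.toFinite _)
    omega

end Cfsg.Agent.H643.Gow.Node
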