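import Mathlib
import Cfsg.Agent.H643.Gow.Two
import Cfsg.Agent.H115.HC.RankTwo
import Cfsg.Agent.Nodes.RGDTwActE6
import Cfsg.Agent.Nodes.RGDTwNode

/-!
# `²E₆(q)`, `q` even: the nodes and the action of the Weyl group (helper643, S4913)

* `sln` : the rank one groups `SL₂` of the four nodes; `phi_up` : the coordinates;
* `conj_nw` : the action of products of the fundamental reflections on the root elements;
* `card_perm` : at most four elements of the Weyl group of type `F₄` permute the simple roots `α₀`, `α₃`.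
-/

set_option autoImplicit false
set_option linter.unusedSectionVars false
set_option maxHeartbeats 400000

namespace Cfsg.Agent.H643.Gow.TwE

open Cfsg.Agent.Nodes CoxeterSystem Cfsg.Agent.ChevalleyStructure.CoxeterGeom Cfsg.Agent.Tits.Roots Cfsg.Agent.Tits.Core
  Cfsg.Agent.Nodes.BNOf Cfsg.Agent.Nodes.RGDTwGen Cfsg.Agent.Nodes.RGDChev Cfsg.Agent.Nodes.RGDFold
  Cfsg.Agent.Nodes.RGDFoldSL Cfsg.Agent.Nodes.RGDTwE6 Cfsg.Agent.Nodes.RGDTwTab Cfsg.Agent.Nodes.RGDTwCoordE6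
  Cfsg.Agent.Nodes.RGDTwCoord Cfsg.Agent.Nodes.RGDTwComE6 Cfsg.Agent.Nodes.RGDTwActE6 Cfsg.Agent.Nodes.Reps
  Cfsg.Agent.H53.HC
open Cfsg.Lie Cfsg.Agent.ChevalleyStructure
  Cfsg.Agent.ChevalleyStructure.TwistedU Cfsg.Agent.ChevalleyStructure.TwistedFix
open Cfsg.Agent.ChevalleyStructure.SL2Hom (up lo)
open Cfsg.Agent.ChevalleyStructure.TwE6Basic (sg)

universe u

/-- The class of a vector. -/
local notation "cl" => RGDTwCoord.cl chevE6 J O

/-! ### The Weyl group -/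

section W

variable {W : Type*} [Group W] {cs : CoxeterSystem CoxeterMatrix.F₄ W} {z w : Fin 4 → ℤ}

/-- the invariant form -/
def B4 (x y : Fin 4 → ℤ) : ℤ :=
  4 * (x 0 * y 0) + 4 * (x 1 * y 1) + 2 * (x 2 * y 2) + 2 * (x 3 * y 3) - 2 * (x 0 * y 1 + x 1 * y 0) -
    2 * (x 1 * y 2 + x 2 * y 1) - (x 2 * y 3 + x 3 * y 2)

theorem Qv_eq (x : Fin 4 → ℤ) : Qv x = B4 x x := by
  unfold Qv Q4 B4
  ring

theorem B4_refl (j : Fin 4) (x y : Fin 4 → ℤ) :
    B4 (RGDFold.refl RGDTwE6.A j x) (RGDFold.refl RGDTwE6.A j y) = B4 x y := by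
  fin_cases j <;> simp [B4, RGDFold.refl, pairing, Fin.sum_univ_four, RGDTwE6.A, sr, Pi.single_apply] <;> ring

theorem B4_rep (v : W) (x y : Fin 4 → ℤ) :
    B4 (rep cs RGDTwE6.isCartan v x) (rep cs RGDTwE6.isCartan v y) = B4 x y := by
  obtain ⟨ω, rfl⟩ := cs.wordProd_surjective v
  induction ω with
  | nil => rw [wordProd_nil, map_one, Module.End.one_apply, Module.End.one_apply]
  | cons j ω ih => rw [wordProd_cons, rep_mul_apply, rep_mul_apply, rep_refl, rep_refl, B4_refl, ih]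

theorem St_rep (v : W) (x : Fin 4 → ℤ) : St (rep cs RGDTwE6.isCartan v x) ↔ St x := by
  unfold St
  rw [Qv_eq, Qv_eq, B4_rep]

theorem Lg_rep (v : W) (x : Fin 4 → ℤ) : Lg (rep cs RGDTwE6.isCartan v x) ↔ Lg x := by
  unfold Lg
  rw [Qv_eq, Qv_eq, B4_rep]

/-- the vector of a table entry -/
def vv (i : Fin 48) : Fin 4 → ℤ := ![(vtab.getD i (0, 0, 0, 0)).1, (vtab.getD i (0, 0, 0, 0)).2.1,
  (vtab.getD i (0, 0, 0, 0)).2.2.1, (vtab.getD i (0, 0, 0, 0)).2.2.2]

theorem exists_vv (hz : IsRoot cs RGDTwE6.isCartan z) : ∃ i : Fin 48, z = vv i := by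
  obtain ⟨i, hi, -, e⟩ := exists_index hz
  exact ⟨⟨i, hi⟩, e⟩

/-- the possible images of `α₁`, `α₂` -/
def Chk (i j : Fin 48) : Prop :=
  B4 (sr 0) (vv i) = -2 ∧ B4 (sr 3) (vv i) = 0 ∧ B4 (vv i) (vv i) = 4 ∧ B4 (sr 0) (vv j) = 0 ∧
    B4 (sr 3) (vv j) = -1 ∧ B4 (vv j) (vv j) = 2 ∧ B4 (vv i) (vv j) = -2

instance decChkTwE : DecidablePred fun p : Fin 48 × Fin 48 => Chk p.1 p.2 := fun _ => by
  unfold Chk
  infer_instance

theorem card_chk : (Finset.univ.filter fun p : Fin 48 × Fin 48 => Chk p.1 p.2).card ≤ 4 := by decide +kernel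

theorem fix_of_perm {v : W} (hv : Perm cs RGDTwE6.isCartan ({0} ∪ {3}) v) :
    rep cs RGDTwE6.isCartan v (sr 0) = sr 0 ∧ rep cs RGDTwE6.isCartan v (sr 3) = sr 3 := by
  have h0 : Qv (sr 0 : Fin 4 → ℤ) = 4 := by decide
  have h3 : Qv (sr 3 : Fin 4 → ℤ) = 2 := by decide
  constructor
  · obtain ⟨k, hk, e⟩ := hv.2 0 (Or.inl rfl)
    rcases hk with hk | hk
    · rw [e, Set.mem_singleton_iff.1 hk]
    · exfalso
      have h1 := B4_rep (cs := cs) v (sr 0) (sr 0)
      rw [e, Set.mem_singleton_iff.1 hk, ← Qv_eq, ← Qv_eq, h0, h3] at h1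
      omega
  · obtain ⟨k, hk, e⟩ := hv.2 3 (Or.inr rfl)
    rcases hk with hk | hk
    · exfalso
      have h1 := B4_rep (cs := cs) v (sr 3) (sr 3)
      rw [e, Set.mem_singleton_iff.1 hk, ← Qv_eq, ← Qv_eq, h0, h3] at h1
      omega
    · rw [e, Set.mem_singleton_iff.1 hk]

theorem eq_of_rep [Finite W] {v w : W}
    (hvw : ∀ i, rep cs RGDTwE6.isCartan v (sr i) = rep cs RGDTwE6.isCartan w (sr i)) : v = w := by
  have h1 : w⁻¹ * v = 1 := by
    refine eq_one_of_nonneg (cs := cs) (h := RGDTwE6.isCartan) fun i => ?_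
    rw [rep_mul_apply, hvw, rep_inv_apply]
    exact sr_nonneg i
  exact (inv_mul_eq_one.1 h1).symm

theorem card_perm [Finite W] : {v : W | Perm cs RGDTwE6.isCartan ({0} ∪ {3}) v}.ncard ≤ 4 := by
  classical
  have h1 : ∀ v : W, ∃ p : Fin 48 × Fin 48, rep cs RGDTwE6.isCartan v (sr 1) = vv p.1 ∧
      rep cs RGDTwE6.isCartan v (sr 2) = vv p.2 := by
    intro v
    obtain ⟨i, hi⟩ := exists_vv ((isRoot_sr cs RGDTwE6.isCartan 1).act v)
    obtain ⟨j, hj⟩ := exists_vv ((isRoot_sr cs RGDTwE6.isCartan 2).act v)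
    exact ⟨(i, j), hi, hj⟩
  choose f hf1 hf2 using h1
  have h2 : ∀ v ∈ {v : W | Perm cs RGDTwE6.isCartan ({0} ∪ {3}) v},
      f v ∈ ((Finset.univ.filter fun p : Fin 48 × Fin 48 => Chk p.1 p.2 : Finset (Fin 48 × Fin 48)) :
        Set (Fin 48 × Fin 48)) := by
    intro v hv
    obtain ⟨h0, h3⟩ := fix_of_perm hv
    rw [Finset.mem_coe, Finset.mem_filter]
    refine ⟨Finset.mem_univ _, ?_⟩
    have key := fun x y => B4_rep (cs := cs) v x y
    unfold Chk
    refine ⟨?_, ?_, ?_, ?_, ?_, ?_, ?_⟩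
    · rw [← hf1, ← h0, key]; decide
    · rw [← hf1, ← h3, key]; decide
    · rw [← hf1, key]; decide
    · rw [← hf2, ← h0, key]; decide
    · rw [← hf2, ← h3, key]; decide
    · rw [← hf2, key]; decide
    · rw [← hf1, ← hf2, key]; decide
  have h3 : Set.InjOn f {v : W | Perm cs RGDTwE6.isCartan ({0} ∪ {3}) v} := by
    intro v hv v' hv' he
    refine eq_of_rep (cs := cs) fun i => ?_
    obtain ⟨h0, h3⟩ := fix_of_perm hv
    obtain ⟨h0', h3'⟩ := fix_of_perm hv'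
    fin_cases i
    · exact h0.trans h0'.symm
    · exact ((hf1 v).trans (by rw [he])).trans (hf1 v').symm
    · exact ((hf2 v).trans (by rw [he])).trans (hf2 v').symm
    · exact h3.trans h3'.symm
  have h4 := Set.ncard_le_ncard_of_injOn f h2 h3 (Set.toFinite _)
  rw [Set.ncard_coe_finset] at h4
  exact h4.trans card_chk

/-- the word of the reflection of the short root `(1, 2, 2, 1)` -/
def word : List (Fin 4) := [1, 0, 2, 3, 1, 2, 1, 3, 2, 0, 1]

theorem rep_list (ω : List (Fin 4)) (x : Fin 4 → ℤ) :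
    rep cs RGDTwE6.isCartan (cs.wordProd ω) x = ω.foldr (RGDFold.refl RGDTwE6.A) x := by
  induction ω with
  | nil => rw [wordProd_nil, map_one, Module.End.one_apply]; rfl
  | cons j ω ih => rw [wordProd_cons, rep_mul_apply, rep_refl, ih]; rfl

theorem word_zero : rep cs RGDTwE6.isCartan (cs.wordProd word) (sr 0) = sr 0 := by
  rw [rep_list]; decide

theorem word_three : rep cs RGDTwE6.isCartan (cs.wordProd word) (sr 3) = sr 3 := by
  rw [rep_list]; decide

end W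

/-- the short nodes -/
def cnt (j : Fin 4) : Bool := decide (2 ≤ (j : ℕ))

/-! ### The nodes -/

/-- the field of the node `i` -/
abbrev FF {K : Type u} [Field K] (φ : K →+* K) (i : Fin 4) : Subfield K := Fx φ ((RGDTwNode.E6.rest i).length + 1)

theorem cl_sr : ∀ i : Fin 4, cl (sr i) = RGDTwNode.E6.rep i :: RGDTwNode.E6.rest i := by decide +kernel

theorem dl_sr : ∀ i : Fin 4, ∀ s ∈ RGDTwNode.E6.rep i :: RGDTwNode.E6.rest i, dl s = 1 := by decide +kernel

theorem yv_congr {Γ K : Type*} [Group Γ] [Field K] {x x' : ℕ → K → Γ} {φ : K →+* K} {o : List ℕ}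
    (h : ∀ s ∈ o, ∀ a, x s a = x' s a) (a : K) : yv x φ o a = yv x' φ o a := by
  induction o generalizing a with
  | nil => rfl
  | cons r o ih =>
    show x r a * yv x φ o (φ a) = x' r a * yv x' φ o (φ a)
    rw [h r List.mem_cons_self, ih fun s hs => h s (List.mem_cons_of_mem _ hs)]

section G

variable {K : Type u} [Field K] {q : ℕ} {φ : K →+* K}

theorem ok_iff (i : Fin 4) (a : K) : Ok chevE6 J O φ (sr i) a ↔ a ∈ FF φ i := by
  unfold Ok
  rw [cl_sr, mem_Fx]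
  rfl

theorem hf (i : Fin 4) : ∀ s ∈ RGDTwNode.E6.rep i :: RGDTwNode.E6.rest i, ∀ t : K,
    ((TwistedE6Sigma.eps s : ℤ) : K) * φ t = φ t := fun s hs t => by
  rw [RGDTwNode.E6.eps_one i s hs, Int.cast_one, one_mul]

variable [Fintype K] (hφ : ∀ x, φ x = x ^ q) (hqq : ∀ t : K, (t ^ q) ^ q = t)

/-- the homomorphism of the node `i` -/
noncomputable def Pn (i : Fin 4) : Matrix.SpecialLinearGroup (Fin 2) (FF φ i) →* ↥(twistedE6 K q) :=
  Phi (foldGrp hφ hqq) (RGDTwNode.E6.nodeOK i) (hf i)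

theorem sln (i : Fin 4) : Node.SLN (T K q) (nn hφ) (X φ q) i (FF φ i) (Pn hφ hqq i) where
  mem g := mem_X_iff (foldGrp hφ hqq) (RGDTwNode.E6.nodeOK i) (hf i) g
  w := Phi_wS (foldGrp hφ hqq) (RGDTwNode.E6.nodeOK i) (hf i)
  tor _ hd := Phi_hS (foldGrp hφ hqq) (RGDTwNode.E6.nodeOK i) (hf i) hd
  inj := Phi_up_injective (foldGrp hφ hqq) (RGDTwNode.E6.nodeOK i) (hf i)

theorem pn_up (i : Fin 4) (a : FF φ i) : Pn hφ hqq i (up a) = x φ q (sr i) (a : K) := by
  let cs : CoxeterSystem CoxeterMatrix.F₄ CoxeterMatrix.F₄.Group := CoxeterMatrix.F₄.toCoxeterSystem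
  apply Subtype.ext
  rw [coe_x hφ hqq (isRoot_sr cs RGDTwE6.isCartan i) ((ok_iff i _).2 a.2)]
  refine (coe_Phi_up (foldGrp hφ hqq) (RGDTwNode.E6.nodeOK i) (hf i) a).trans ?_
  unfold Y
  rw [cl_sr]
  refine yv_congr (fun s hs b => ?_) _
  unfold xs
  rw [dl_sr i s hs, Int.cast_one, one_mul]

include hφ hqq in
theorem scal (i : Fin 4) {t : ↥(twistedE6 K q)} (ht : t ∈ T K q) :
    ∃ c : FF φ i, c ≠ 0 ∧ ∀ a, t * Pn hφ hqq i (up a) * t⁻¹ = Pn hφ hqq i (up (c * a)) := by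
  let cs : CoxeterSystem CoxeterMatrix.F₄ CoxeterMatrix.F₄.Group := CoxeterMatrix.F₄.toCoxeterSystem
  obtain ⟨χ, h0, h1, h2⟩ := conj_T hφ hqq (isRoot_sr cs RGDTwE6.isCartan i) ht
  refine ⟨⟨χ, (ok_iff i _).1 h1⟩, fun h => h0 (congrArg Subtype.val h), fun a => ?_⟩
  rw [pn_up, pn_up, h2 _ ((ok_iff i _).2 a.2)]
  rfl

variable {W : Type*} [Group W] {cs : CoxeterSystem CoxeterMatrix.F₄ W} {z w : Fin 4 → ℤ}

/-- the representative of a word -/
noncomputable def nw (hφ : ∀ x, φ x = x ^ q) (ω : List (Fin 4)) : ↥(twistedE6 K q) := (ω.map (nn hφ)).prod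

theorem rp_nw {p : ℕ} (R : RGD cs RGDTwE6.isCartan p (T K q) (nn hφ) (X φ q)) (ω : List (Fin 4)) :
    Rp cs R.nsys (cs.wordProd ω) (nw hφ ω) := by
  induction ω with
  | nil => exact rp_one
  | cons j ω ih =>
    rw [wordProd_cons]
    exact (rp_simple cs R.nsys j).mul ih

include hqq in
/-- **The action of products of the fundamental reflections.** -/
theorem conj_nw [CharP K 2] (ω : List (Fin 4)) (hz : IsRoot cs RGDTwE6.isCartan z) {a : K}
    (ha : Ok chevE6 J O φ z a) :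
    Ok chevE6 J O φ (rep cs RGDTwE6.isCartan (cs.wordProd ω) z)
      (if St z then φ^[ω.countP cnt] a else a) ∧
    nw hφ ω * x φ q z a * (nw hφ ω)⁻¹ = x φ q (rep cs RGDTwE6.isCartan (cs.wordProd ω) z)
      (if St z then φ^[ω.countP cnt] a else a) := by
  have h2 : (2 : K) = 0 := by
    have := CharP.cast_eq_zero K 2
    exact_mod_cast this
  induction ω with
  | nil =>
    rw [wordProd_nil, map_one, Module.End.one_apply]
    have e : (if St z then φ^[([] : List (Fin 4)).countP cnt] a else a) = a := by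
      split_ifs <;> rfl
    rw [e]
    refine ⟨ha, ?_⟩
    unfold nw
    rw [List.map_nil, List.prod_nil, one_mul, inv_one, mul_one]
  | cons j ω ih =>
    obtain ⟨h3, h4⟩ := ih
    obtain ⟨η, hη, h5⟩ := conj_nn hφ hqq (hz.act (cs.wordProd ω)) j
    rw [hη.eq_one h2] at h5
    obtain ⟨h6, h7⟩ := h5 _ h3
    rw [wordProd_cons, rep_mul_apply]
    have e : (1 : K) * (if St (rep cs RGDTwE6.isCartan (cs.wordProd ω) z) ∧ 2 ≤ (j : ℕ) then
        φ (if St z then φ^[ω.countP cnt] a else a) else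
          (if St z then φ^[ω.countP cnt] a else a)) =
        if St z then φ^[(j :: ω).countP cnt] a else a := by
      rw [one_mul]
      by_cases hs : St z
      · have hs' := (St_rep (cs := cs) (cs.wordProd ω) z).2 hs
        by_cases hj : 2 ≤ (j : ℕ)
        · rw [if_pos ⟨hs', hj⟩, if_pos hs, if_pos hs, List.countP_cons_of_pos (by simpa [cnt] using hj),
            Function.iterate_succ_apply']
        · rw [if_neg (fun h => hj h.2), if_pos hs, if_pos hs, List.countP_cons_of_neg (by simpa [cnt] using hj)]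
      · rw [if_neg (fun h => hs ((St_rep (cs := cs) (cs.wordProd ω) z).1 h.1)), if_neg hs, if_neg hs]
    rw [e] at h6 h7
    refine ⟨h6, ?_⟩
    rw [← h7, ← h4]
    unfold nw
    rw [List.map_cons, List.prod_cons]
    group

end G

end Cfsg.Agent.H643.Gow.TwE
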