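import Mathlib
import Cfsg.Agent.H643.Gow.TwE
import Cfsg.Agent.H643.Gow.Five
import Cfsg.Agent.H636.Gow.CuspSL
import Cfsg.Agent.H35.ExcIdxTw
import Cfsg.Agent.KFacts.RgdAutFacts

/-!
# `²E₆(q)`, `q = 2 ^ f`, `f` odd: a rational-valued character of odd degree (helper643, S4913)
-/

set_option autoImplicit false
set_option linter.unusedSectionVars false
set_option maxHeartbeats 400000

namespace Cfsg.Agent.H643.Gow.TwE

open Cfsg.Agent.Nodes CoxeterSystem Cfsg.Agent.ChevalleyStructure.CoxeterGeom Cfsg.Agent.Tits.Roots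
  Cfsg.Agent.Tits.Core
  Cfsg.Agent.Nodes.BNOf Cfsg.Agent.Nodes.RGDTwGen Cfsg.Agent.Nodes.RGDChev Cfsg.Agent.Nodes.RGDFold
  Cfsg.Agent.Nodes.RGDFoldSL Cfsg.Agent.Nodes.RGDTwE6 Cfsg.Agent.Nodes.RGDTwTab Cfsg.Agent.Nodes.RGDTwCoordE6
  Cfsg.Agent.Nodes.RGDTwCoord Cfsg.Agent.Nodes.RGDTwComE6 Cfsg.Agent.Nodes.RGDTwActE6 Cfsg.Agent.Nodes.Reps
  Cfsg.Agent.H53.HC Cfsg.Agent.Nodes.StabComb Cfsg.Agent.H35.ExcIdx Cfsg.Agent.Nodes.Bruhat
  Cfsg.Agent.Nodes.OppDec Cfsg.Agent.Nodes.LeviDec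
open Cfsg.Lie Cfsg.Agent.ChevalleyStructure
  Cfsg.Agent.ChevalleyStructure.TwistedU Cfsg.Agent.ChevalleyStructure.TwistedFix
open Cfsg.Agent.ChevalleyStructure.SL2Hom (up lo)
open Cfsg.Agent.ChevalleyStructure.TwE6Basic (sg exists_frob)

universe u

/-- A parabolic subgroup has odd index in characteristic two. -/
theorem odd_index {I W Y : Type*} [Fintype I] [DecidableEq I] [Group W] [Group Y] {M : CoxeterMatrix I}
    {cs : CoxeterSystem M W} {A : I → I → ℤ} {h : IsCartan M A} {T : Subgroup Y} {n : I → Y}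
    {X : (I → ℤ) → Subgroup Y} (R : RGD cs h 2 T n X) [Finite W] [Finite Y] (hG : GG cs h T X = ⊤) (J : Set I) :
    Odd (PJ cs h T X J).index := by
  have : Fact (Nat.Prime 2) := ⟨Nat.prime_two⟩
  obtain ⟨S, hS⟩ := Cfsg.Agent.KFacts.RgdAutFacts.exists_sylow R hG
  have h2 : (S : Subgroup Y) ≤ PJ cs h T X J := by
    rw [hS]
    exact le_trans (le_sup_right (a := T)) (B_le_PJ (cs := cs) (h := h) (T := T) (X := X))
  rw [← Nat.not_even_iff_odd, even_iff_two_dvd]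
  intro h3
  exact S.not_dvd_index (h3.trans (Subgroup.index_dvd_of_le h2))

theorem card_field {I Y : Type*} [Fintype I] [DecidableEq I] [Group Y] {T : Subgroup Y} {n : I → Y}
    {X : (I → ℤ) → Subgroup Y} {i : I} {F : Type*} [Field F] {Φ : Matrix.SpecialLinearGroup (Fin 2) F →* Y}
    (S : Node.SLN T n X i F Φ) : Nat.card F = Nat.card ↥(X (sr i)) := by
  refine Nat.card_congr (Equiv.ofBijective (fun a : F => (⟨Φ (up a), S.up_mem a⟩ : ↥(X (sr i)))) ⟨?_, ?_⟩)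
  · intro a b hab
    exact S.inj (congrArg Subtype.val hab)
  · rintro ⟨g, hg⟩
    obtain ⟨a, rfl⟩ := (S.mem g).1 hg
    exact ⟨a, rfl⟩

theorem sum_up {F : Type*} [Field F] [Fintype F] {χ : Matrix.SpecialLinearGroup (Fin 2) F → ℂ}
    (h1 : χ 1 = ((Nat.card F - 1 : ℕ) : ℂ)) (hu : ∀ a : F, a ≠ 0 → χ (up a) = -1) : ∑ a : F, χ (up a) = 0 := by
  classical
  have h0 : (up (0 : F) : Matrix.SpecialLinearGroup (Fin 2) F) = 1 := by
    apply Subtype.ext
    show (!![1, 0; 0, 1] : Matrix (Fin 2) (Fin 2) F) = 1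
    rw [Matrix.one_fin_two]
  rw [← Finset.add_sum_erase _ _ (Finset.mem_univ (0 : F)), h0, h1,
    Finset.sum_congr rfl fun a ha => hu a (Finset.ne_of_mem_erase ha), Finset.sum_const, Finset.card_erase_of_mem
    (Finset.mem_univ _), Finset.card_univ, Nat.card_eq_fintype_card]
  simp

theorem iterate_odd {K : Type*} {φ : K → K} (h2 : ∀ a, φ (φ a) = a) (a : K) : φ^[5] a = φ a := by
  show φ (φ (φ (φ (φ a)))) = φ a
  rw [h2, h2]

/-- **The case `q = 2 ^ f`, `f` odd.** -/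
theorem ratOdd_odd {K : Type u} [Field K] [Fintype K] [CharP K 2] {q f : ℕ} (hf : Odd f) (hq : q = 2 ^ f)
    (hK : Fintype.card K = q ^ 2) : Cfsg.Agent.H636.Gow.RatOdd ↥(twistedE6 K q) := by
  classical
  have hf0 : f ≠ 0 := hf.pos.ne'
  have : Fact (Nat.Prime 2) := ⟨Nat.prime_two⟩
  have hpp : IsPrimePow q := by rw [hq]; exact Nat.prime_two.isPrimePow.pow hf0
  obtain ⟨φ, hφ, hqq⟩ := exists_frob hpp hK
  have : Finite ↥(twistedE6 K q) := by
    have : Finite (GL chevE6.Idx K) := by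
      have : Finite (Matrix chevE6.Idx chevE6.Idx K) := inferInstance
      infer_instance
    infer_instance
  have D := data_TwE6_2 Nat.prime_two hf0 hq hφ hqq hK
  have hW := D.fin
  let cs : CoxeterSystem CoxeterMatrix.F₄ CoxeterMatrix.F₄.Group := CoxeterMatrix.F₄.toCoxeterSystem
  have R : RGD cs RGDTwE6.isCartan 2 (T K q) (nn hφ) (X φ q) := D.rgd
  have hG : GG cs RGDTwE6.isCartan (T K q) (X φ q) = ⊤ := D.gg
  have hch : ∀ i, CharP (FF φ i) 2 := fun i => (FF φ i).subtype.charP (FF φ i).subtype.injective 2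
  have hch0 := hch 0
  have hch3 := hch 3
  have hc0 : Nat.card (FF φ 0) = q := (card_field (sln hφ hqq 0)).trans (D.size 0)
  have hc3 : Nat.card (FF φ 3) = q ^ 2 := (card_field (sln hφ hqq 3)).trans (D.size 3)
  have : Fintype (FF φ 0) := Fintype.ofFinite _
  have : Fintype (FF φ 3) := Fintype.ofFinite _
  obtain ⟨m, hm⟩ := hf
  have hq3 : q % 3 = 2 := by
    rw [hq, hm, pow_add, pow_mul]
    norm_num [Nat.mul_mod, Nat.pow_mod]
  have hq5 : q ^ 2 % 5 = 4 := by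
    rw [hq, hm, ← pow_mul]
    have : (2 * m + 1) * 2 = 4 * m + 2 := by ring
    rw [this, pow_add, pow_mul]
    norm_num [Nat.mul_mod, Nat.pow_mod]
  have hq2 : 2 ∣ q := by rw [hq]; exact dvd_pow_self 2 hf0
  have hq1 : 1 < q := hpp.one_lt
  -- the characters
  obtain ⟨χ, hχ⟩ := Cfsg.Agent.H636.Gow.CuspSL.exists_cuspTwo (FF φ 0) (by
    rw [hc0]
    omega)
  let φ' : FF φ 3 ≃+* FF φ 3 := iterateFrobeniusEquiv (FF φ 3) 2 f
  have hφ' : ∀ x, φ' x = x ^ q := fun x => by rw [hq]; exact iterateFrobeniusEquiv_def (FF φ 3) 2 f x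
  have hφK : ∀ x : FF φ 3, ((φ' x : FF φ 3) : K) = φ (x : K) := fun x => by
    rw [hφ', hφ]; rfl
  obtain ⟨θ, hθ, hθ1, hθu, hθne, hθg⟩ := Five.exists_cusp_five (FF φ 3) (q := q) hc3.symm hq5 φ' hφ'
  have hχ1 : χ 1 = ((Nat.card (FF φ 0) - 1 : ℕ) : ℂ) := by
    rw [hχ.one, Nat.cast_sub (by rw [hc0]; omega), Nat.cast_one]
  refine Node.ratOdd_two R hG (i := 0) (j := 3) ?_ (sln hφ hqq 0) (sln hφ hqq 3) (fun t ht => scal hφ hqq 0 ht)
    (fun t ht => scal hφ hqq 3 ht) hχ.irr (fun σ x => ?_) (d := Nat.card (FF φ 0) - 1) ?_ hχ1 (sum_up hχ1 ?_) hθ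
    (d' := Nat.card (FF φ 3) - 1) ?_ hθ1 (sum_up hθ1 hθu) φ' ?_ hθne hθg
    (u := (cs.wordProd word)⁻¹) (g := (nw hφ word)⁻¹) (rp_nw hφ R word).inv ?_ ?_ (RingEquiv.refl _) ?_ (b := 1)
    one_ne_zero ?_ (b' := 1) one_ne_zero ?_ card_perm (odd_index R hG _)
  · intro i hi j hj
    rw [Set.mem_singleton_iff.1 hi, Set.mem_singleton_iff.1 hj]
    decide
  · obtain ⟨r, hr⟩ := hχ.rat x
    rw [hr, map_ratCast]
  · rw [hc0, ← Nat.not_even_iff_odd, even_iff_two_dvd]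
    omega
  · intro a ha
    refine hχ.unip _ (fun h => ha ?_) ?_
    · have h1 := congrFun (congrFun (congrArg Subtype.val h) 0) 1
      simpa [up] using h1
    · have h1 : ((up a : Matrix.SpecialLinearGroup (Fin 2) (FF φ 0)) : Matrix (Fin 2) (Fin 2) (FF φ 0)) - 1 =
          !![0, a; 0, 0] := by
        show (!![1, a; 0, 1] : Matrix (Fin 2) (Fin 2) (FF φ 0)) - 1 = _
        rw [Matrix.one_fin_two]
        ext i j
        fin_cases i <;> fin_cases j <;> simp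
      rw [h1, pow_two]
      ext i j
      fin_cases i <;> fin_cases j <;> simp [Matrix.mul_apply, Fin.sum_univ_two]
  · rw [hc3, ← Nat.not_even_iff_odd, even_iff_two_dvd]
    have h4 : 2 ∣ q ^ 2 := hq2.trans (dvd_pow_self q two_ne_zero)
    have h5 : 0 < q ^ 2 := by positivity
    omega
  · intro x
    apply Subtype.ext
    rw [hφK, hφK, phi_phi hφ hqq]
  · conv_lhs => rw [← word_zero (cs := cs)]
    exact rep_inv_apply cs _ _ _
  · conv_lhs => rw [← word_three (cs := cs)]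
    exact rep_inv_apply cs _ _ _
  · intro x
    congr 1
  · intro a
    rw [inv_inv, pn_up, pn_up]
    have hns : ¬ St (sr 0 : Fin 4 → ℤ) := by decide
    have h1 := (conj_nw (cs := cs) hφ hqq word (isRoot_sr cs RGDTwE6.isCartan 0) ((ok_iff 0 _).2 a.2)).2
    rw [if_neg hns, word_zero] at h1
    rw [h1, one_mul]
    rfl
  · intro a
    rw [inv_inv, pn_up, pn_up]
    have hs : St (sr 3 : Fin 4 → ℤ) := by decide
    have h1 := (conj_nw (cs := cs) hφ hqq word (isRoot_sr cs RGDTwE6.isCartan 3) ((ok_iff 3 _).2 a.2)).2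
    rw [if_pos hs, word_three] at h1
    have h2 : word.countP cnt = 5 := by decide
    rw [h2, iterate_odd (phi_phi hφ hqq)] at h1
    rw [h1, one_mul, hφK]

end Cfsg.Agent.H643.Gow.TwE
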