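import Mathlib
import Cfsg.Agent.H643.Gow.TwEOdd
import Cfsg.Agent.H650.GowRgd

/-!
# `²E₆(q)`, `q = 2 ^ f`, `f` even: a rational-valued character of odd degree (helper643, S4913)

A linear character of order three of the normaliser of a long root group (`H650.GowRgd.ratOdd_rgd`).
-/

set_option autoImplicit false
set_option linter.unusedSectionVars false
set_option maxHeartbeats 400000

namespace Cfsg.Agent.H643.Gow.TwE

open Cfsg.Agent.Nodes CoxeterSystem Cfsg.Agent.ChevalleyStructure.CoxeterGeom Cfsg.Agent.Tits.Roots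
  Cfsg.Agent.Tits.Core
  Cfsg.Agent.Nodes.BNOf Cfsg.Agent.Nodes.RGDTwGen Cfsg.Agent.Nodes.RGDChev Cfsg.Agent.Nodes.RGDFold
  Cfsg.Agent.Nodes.RGDFoldSL Cfsg.Agent.Nodes.RGDTwE6 Cfsg.Agent.Nodes.RGDTwTab Cfsg.Agent.Nodes.RGDTwCoordE6
  Cfsg.Agent.Nodes.RGDTwCoord Cfsg.Agent.Nodes.RGDTwComE6 Cfsg.Agent.Nodes.RGDTwActE6 Cfsg.Agent.Nodes.Reps
  Cfsg.Agent.H53.HC Cfsg.Agent.Nodes.StabComb Cfsg.Agent.H35.ExcIdx Cfsg.Agent.Nodes.Bruhat
  Cfsg.Agent.Nodes.OppDec Cfsg.Agent.Nodes.LeviDec Cfsg.Agent.Nodes.NormX Cfsg.Agent.H687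
  Cfsg.Agent.H650.GowLin Cfsg.Agent.H650.GowRgd
open Cfsg.Lie Cfsg.Agent.ChevalleyStructure
  Cfsg.Agent.ChevalleyStructure.TwistedU Cfsg.Agent.ChevalleyStructure.TwistedFix
open Cfsg.Agent.ChevalleyStructure.SL2Hom (up lo)
open Cfsg.Agent.ChevalleyStructure.TwE6Basic (sg exists_frob)

universe u

/-- the highest root -/
def top : Fin 4 → ℤ := ![2, 3, 4, 2]

/-- a word moving `α₀` to the highest root -/
def wtop : List (Fin 4) := [0, 1, 2, 3, 1, 2, 1]

theorem le_top : ∀ i : Fin 48, ∀ k, vv i k ≤ top k := by decide +kernel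

theorem even_tab : ∀ i : Fin 48, Qv (vv i) = 4 → ∀ j : Fin 4, 2 ≤ (j : ℕ) → pairing RGDTwE6.A j (vv i) % 2 = 0 := by
  decide +kernel

theorem three_tab : ∀ i : Fin 48, Qv (vv i) = 4 → vv i ≠ top →
    ∃ j : Fin 4, ¬ (3 : ℤ) ∣ pairing RGDTwE6.A j top - pairing RGDTwE6.A j (vv i) := by
  decide +kernel

section W

variable {W : Type*} [Group W] {cs : CoxeterSystem CoxeterMatrix.F₄ W} {z w : Fin 4 → ℤ}

theorem rep_top : rep cs RGDTwE6.isCartan (cs.wordProd wtop) (sr 0) = top := by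
  rw [rep_list]; decide

theorem isRoot_top : IsRoot cs RGDTwE6.isCartan top := ⟨cs.wordProd wtop, 0, rep_top.symm⟩

theorem root_le (hz : IsRoot cs RGDTwE6.isCartan z) (k : Fin 4) : z k ≤ top k := by
  obtain ⟨i, rfl⟩ := exists_vv hz
  exact le_top i k

theorem top_add (hz : IsRoot cs RGDTwE6.isCartan z) (h0 : 0 ≤ z) : ¬ IsRoot cs RGDTwE6.isCartan (top + z) := by
  intro h1
  apply hz.ne_zero
  funext k
  have h2 := root_le h1 k
  have h3 := h0 k
  rw [Pi.add_apply] at h2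
  have h3' : 0 ≤ z k := h3
  show z k = 0
  omega

theorem Lg_top : Lg top := by decide

end W

section G

variable {K : Type u} [Field K] {q : ℕ} {φ : K →+* K} [Fintype K] (hφ : ∀ x, φ x = x ^ q)
  (hqq : ∀ t : K, (t ^ q) ^ q = t) {W : Type*} [Group W] {cs : CoxeterSystem CoxeterMatrix.F₄ W} {z w : Fin 4 → ℤ}

theorem fix0 (a : FF φ 0) : φ (a : K) = a := mem_Fx.1 a.2

theorem mem0 {a : K} (ha : φ a = a) : a ∈ FF φ 0 := mem_Fx.2 ha

include hφ hqq

theorem comm_top (hz : IsRoot cs RGDTwE6.isCartan z) (h0 : 0 ≤ z) {u : ↥(twistedE6 K q)} (hu : u ∈ X φ q z)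
    (a : FF φ 0) : u * x φ q top a = x φ q top a * u := by
  obtain ⟨b, hb, rfl⟩ := (mem_X hφ hqq hz u).1 hu
  by_cases hzt : z = top
  · subst hzt
    have ha := ok_long (φ := φ) hz Lg_top (fix0 a)
    rw [← x_add hφ hqq hz hb ha, ← x_add hφ hqq hz ha hb, add_comm]
  · have hne : z ≠ -top := by
      rintro rfl
      have h1 := h0 0
      have h2 : ¬ (0 : ℤ) ≤ (-top) 0 := by decide
      exact h2 h1
    exact ((comm_nil hφ hqq isRoot_top hz (top_add hz h0) hne a b).symm).eq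

/-- the torus elements -/
theorem hh_long [CharP K 2] (hz : IsRoot cs RGDTwE6.isCartan z) (lz : Lg z) (j : Fin 4) (e : (FF φ 0)ˣ) (a : FF φ 0) :
    hh φ q j ((e : FF φ 0) : K) * x φ q z a * (hh φ q j ((e : FF φ 0) : K))⁻¹ =
      x φ q z ((((e ^ pairing RGDTwE6.A j z : (FF φ 0)ˣ) : FF φ 0) * a : FF φ 0) : K) := by
  have he0 : (((e : FF φ 0)) : K) ≠ 0 := fun h => e.ne_zero (Subtype.ext h)
  have he := fix0 (e : FF φ 0)
  have h1 := (conj_hh hφ hqq hz he0 (j := j) (Or.inr he) (ok_long (φ := φ) hz lz (fix0 a))).2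
  rw [h1]
  congr 1
  push_cast
  congr 1
  unfold sc
  split_ifs with hj
  · rfl
  · rw [he]
    obtain ⟨i, rfl⟩ := exists_vv hz
    have h2 := even_tab i lz j (by omega)
    rw [← zpow_two, ← zpow_mul]
    congr 1
    omega

/-- the scalars of the torus on opposite long root groups -/
theorem opp_zero [CharP K 2] {t : ↥(twistedE6 K q)} (ht : t ∈ T K q) {c c' : FF φ 0}
    (h1 : ∀ a : FF φ 0, t * x φ q (sr 0) a * t⁻¹ = x φ q (sr 0) ((c * a : FF φ 0) : K))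
    (h2 : ∀ a : FF φ 0, t * x φ q (-sr 0) a * t⁻¹ = x φ q (-sr 0) ((c' * a : FF φ 0) : K)) : c * c' = 1 := by
  let cs : CoxeterSystem CoxeterMatrix.F₄ CoxeterMatrix.F₄.Group := CoxeterMatrix.F₄.toCoxeterSystem
  have : Fact (Nat.Prime 2) := ⟨Nat.prime_two⟩
  have hW : Finite CoxeterMatrix.F₄.Group := RGDFold.finite_W (hp := RGDTwE6.hp) cs RGDTwE6.isCartan
    RGDTwE6.foldData
  have R := RGDTwE6.rgd cs hφ hqq 2
  have hch0 : CharP (FF φ 0) 2 := (FF φ 0).subtype.charP (FF φ 0).subtype.injective 2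
  have S := sln hφ hqq 0
  have hL0 : Lg (sr 0 : Fin 4 → ℤ) := by decide
  have hr0 := isRoot_sr cs RGDTwE6.isCartan 0
  -- coordinates of the lower triangular matrices
  have hlo : ∀ a : FF φ 0, Pn hφ hqq 0 (lo a) = x φ q (-sr 0) (a : K) := by
    intro a
    have h3 := (conj_nw (cs := cs) hφ hqq [0] hr0 (ok_long (φ := φ) hr0 hL0 (fix0 (-a)))).2
    have hns : ¬ St (sr 0 : Fin 4 → ℤ) := by decide
    rw [if_neg hns, rep_list] at h3
    have h4 : ([0] : List (Fin 4)).foldr (RGDFold.refl RGDTwE6.A) (sr 0) = -sr 0 := by decide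
    rw [h4] at h3
    have h5 : nw hφ [0] = nn hφ 0 := by
      unfold nw
      rw [List.map_cons, List.map_nil, List.prod_cons, List.prod_nil, mul_one]
    rw [h5] at h3
    rw [lo_eq, map_mul, map_mul, map_inv, S.w, pn_up, h3]
    congr 1
    have h6 : (2 : K) = 0 := by
      have := CharP.cast_eq_zero K 2
      exact_mod_cast this
    push_cast
    linear_combination (-(a : K)) * h6
  have h3 := S.conj R (w := 1) (g := t⁻¹) (rp_of_mem (inv_mem ht)) (by rw [map_one]; rfl) (RingEquiv.refl _)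
    (c := c) ?_ ?_
  · obtain ⟨d, hd, h4⟩ := h3
    have h5 : Pn hφ hqq 0 (up (d * d * 1)) = Pn hφ hqq 0 (up (c * 1)) := by
      have h6 := h4 (up 1)
      rw [inv_inv, map_up] at h6
      have h7 : ((RingEquiv.refl (FF φ 0) : FF φ 0 ≃+* FF φ 0) : FF φ 0 →+* FF φ 0) 1 = 1 := rfl
      rw [h7, Node.hS_up hd, pn_up hφ hqq 0 1, h1] at h6
      rw [← h6, pn_up]
    have h6 : d * d * 1 = c * 1 := S.inj h5
    -- the lower triangular matrices
    have h7 := h4 (lo 1)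
    rw [inv_inv, map_lo] at h7
    have h8 : ((RingEquiv.refl (FF φ 0) : FF φ 0 ≃+* FF φ 0) : FF φ 0 →+* FF φ 0) 1 = 1 := rfl
    have h9 : hS d * lo 1 * (hS d)⁻¹ = lo (d⁻¹ * d⁻¹) := by
      rw [mul_inv_eq_iff_eq_mul]
      apply Subtype.ext
      rw [Matrix.SpecialLinearGroup.coe_mul, Matrix.SpecialLinearGroup.coe_mul, coe_hS hd]
      show _ * (!![1, 0; 1, 1] : Matrix (Fin 2) (Fin 2) (FF φ 0)) = !![1, 0; d⁻¹ * d⁻¹, 1] * _
      ext i j
      fin_cases i <;> fin_cases j <;> simp [Matrix.mul_apply, Fin.sum_univ_two]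
      field_simp
    rw [h8, h9, hlo, hlo, h2] at h7
    have h10 := x_inj hφ hqq hr0.neg (ok_long (φ := φ) hr0.neg (by decide) (fix0 _))
      (ok_long (φ := φ) hr0.neg (by decide) (fix0 _)) h7
    have h11 : c' * 1 = d⁻¹ * d⁻¹ := Subtype.ext h10
    rw [mul_one] at h6 h11
    rw [← mul_one c, ← h6, h11]
    field_simp
  · -- `c ≠ 0`
    rintro rfl
    have h4 := h1 1
    rw [zero_mul, mul_inv_eq_iff_eq_mul] at h4
    have h5 : x φ q (sr 0) (((0 : FF φ 0) : FF φ 0) : K) = 1 := x_zero hφ hqq hr0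
    rw [h5, one_mul, mul_eq_left] at h4
    have h6 := (x_eq_one_iff hφ hqq hr0 (ok_one (φ := φ) _)).1 h4
    exact one_ne_zero h6
  · intro a
    rw [inv_inv, pn_up, pn_up, h1]
    rfl

/-- the scalars of the torus on the root groups of `top`, `-top` -/
theorem opp_top [CharP K 2] {t : ↥(twistedE6 K q)} (ht : t ∈ T K q) {c c' : FF φ 0}
    (h1 : ∀ a : FF φ 0, t * x φ q top a * t⁻¹ = x φ q top ((c * a : FF φ 0) : K))
    (h2 : ∀ a : FF φ 0, t * x φ q (-top) a * t⁻¹ = x φ q (-top) ((c' * a : FF φ 0) : K)) : c * c' = 1 := by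
  let cs : CoxeterSystem CoxeterMatrix.F₄ CoxeterMatrix.F₄.Group := CoxeterMatrix.F₄.toCoxeterSystem
  have : Fact (Nat.Prime 2) := ⟨Nat.prime_two⟩
  have R := RGDTwE6.rgd cs hφ hqq 2
  have hr0 := isRoot_sr cs RGDTwE6.isCartan 0
  have hns : ¬ St (sr 0 : Fin 4 → ℤ) := by decide
  have hns' : ¬ St (-sr 0 : Fin 4 → ℤ) := by decide
  have hL0 : Lg (sr 0 : Fin 4 → ℤ) := by decide
  have hL0' : Lg (-sr 0 : Fin 4 → ℤ) := by decide
  have hk := rp_nw (cs := cs) hφ R wtop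
  have e1 : ∀ a : FF φ 0, nw hφ wtop * x φ q (sr 0) a * (nw hφ wtop)⁻¹ = x φ q top a := by
    intro a
    have h3 := (conj_nw (cs := cs) hφ hqq wtop hr0 (ok_long (φ := φ) hr0 hL0 (fix0 a))).2
    rwa [if_neg hns, rep_top] at h3
  have e2 : ∀ a : FF φ 0, nw hφ wtop * x φ q (-sr 0) a * (nw hφ wtop)⁻¹ = x φ q (-top) a := by
    intro a
    have h3 := (conj_nw (cs := cs) hφ hqq wtop hr0.neg (ok_long (φ := φ) hr0.neg hL0' (fix0 a))).2
    rwa [if_neg hns', map_neg, rep_top] at h3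
  have ht' : (nw hφ wtop)⁻¹ * t * nw hφ wtop ∈ T K q := by
    have := (Subgroup.mem_normalizer_iff.1 (inv_mem hk.mem_normalizer) t).1 ht
    rwa [inv_inv] at this
  refine opp_zero hφ hqq ht' (fun a => ?_) (fun a => ?_)
  · have h3 := h1 a
    rw [← e1, ← e1] at h3
    have h4 : (nw hφ wtop)⁻¹ * t * nw hφ wtop * x φ q (sr 0) a * ((nw hφ wtop)⁻¹ * t * nw hφ wtop)⁻¹ =
        (nw hφ wtop)⁻¹ * (t * (nw hφ wtop * x φ q (sr 0) a * (nw hφ wtop)⁻¹) * t⁻¹) * nw hφ wtop := by group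
    rw [h4, h3]
    group
  · have h3 := h2 a
    rw [← e2, ← e2] at h3
    have h4 : (nw hφ wtop)⁻¹ * t * nw hφ wtop * x φ q (-sr 0) a * ((nw hφ wtop)⁻¹ * t * nw hφ wtop)⁻¹ =
        (nw hφ wtop)⁻¹ * (t * (nw hφ wtop * x φ q (-sr 0) a * (nw hφ wtop)⁻¹) * t⁻¹) * nw hφ wtop := by group
    rw [h4, h3]
    group

end G

/-- **The case `q ≡ 1 (mod 3)`.** -/
theorem ratOdd_even {K : Type u} [Field K] [Fintype K] [CharP K 2] {q f : ℕ} (hf0 : f ≠ 0) (hq : q = 2 ^ f)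
    (h3 : 3 ∣ q - 1) (hK : Fintype.card K = q ^ 2) : Cfsg.Agent.H636.Gow.RatOdd ↥(twistedE6 K q) := by
  classical
  have : Fact (Nat.Prime 2) := ⟨Nat.prime_two⟩
  have hpp : IsPrimePow q := by rw [hq]; exact Nat.prime_two.isPrimePow.pow hf0
  obtain ⟨φ, hφ, hqq⟩ := exists_frob hpp hK
  have : Finite ↥(twistedE6 K q) := by
    have : Finite (GL chevE6.Idx K) := by
      have : Finite (Matrix chevE6.Idx chevE6.Idx K) := inferInstance
      infer_instance
    infer_instance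
  have D := data_TwE6_2 Nat.prime_two hf0 hq hφ hqq hK
  have hW := D.fin
  let cs : CoxeterSystem CoxeterMatrix.F₄ CoxeterMatrix.F₄.Group := CoxeterMatrix.F₄.toCoxeterSystem
  have R : RGD cs RGDTwE6.isCartan 2 (T K q) (nn hφ) (X φ q) := D.rgd
  have hG : GG cs RGDTwE6.isCartan (T K q) (X φ q) = ⊤ := D.gg
  have hc0 : Nat.card (FF φ 0) = q := (card_field (sln hφ hqq 0)).trans (D.size 0)
  obtain ⟨lam, hl3, hl⟩ := exists_lam (F := FF φ 0) (by rw [Nat.card_units, hc0]; exact h3)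
  have hθ : IsRoot cs RGDTwE6.isCartan top := isRoot_top
  have hLg : ∀ w, Lg (rep cs RGDTwE6.isCartan w top) := fun w => (Lg_rep w top).2 Lg_top
  have hok : ∀ w (a : FF φ 0), Ok chevE6 J O φ (rep cs RGDTwE6.isCartan w top) (a : K) := fun w a =>
    ok_long (hθ.act w) (hLg w) (fix0 a)
  have hok1 : ∀ (a : FF φ 0), Ok chevE6 J O φ top (a : K) := fun a => ok_long hθ Lg_top (fix0 a)
  have hdom : Dom RGDTwE6.A top := by
    have h : ∀ i, 0 ≤ pairing RGDTwE6.A i top := by decide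
    exact h
  have z_inj : Function.Injective fun a : FF φ 0 => x φ q top (a : K) := fun a b hab =>
    Subtype.ext (x_inj hφ hqq hθ (hok1 a) (hok1 b) hab)
  have hz : ∀ y, y ∈ X φ q top ↔ ∃ a : FF φ 0, x φ q top (a : K) = y := by
    intro y
    rw [mem_X_long hφ hqq hθ Lg_top]
    constructor
    · rintro ⟨a, ha, rfl⟩
      exact ⟨⟨a, mem0 ha⟩, rfl⟩
    · rintro ⟨a, rfl⟩
      exact ⟨a, fix0 a, rfl⟩
  -- scalars
  have hact : ∀ t ∈ T K q, ∀ w : CoxeterMatrix.F₄.Group, ∃ c : FF φ 0, c ≠ 0 ∧ ∀ a : FF φ 0,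
      t * x φ q (rep cs RGDTwE6.isCartan w top) a * t⁻¹ =
        x φ q (rep cs RGDTwE6.isCartan w top) ((c * a : FF φ 0) : K) := by
    intro t ht w
    obtain ⟨χ, h0, h1, h2⟩ := conj_T hφ hqq (hθ.act w) ht
    refine ⟨⟨χ, mem0 ((ok_iff_long (hθ.act w) (hLg w)).1 h1)⟩, fun h => h0 (congrArg Subtype.val h), fun a => ?_⟩
    rw [h2 _ (hok w a)]
    rfl
  have hnact : ∀ (i : Fin 4) (w : CoxeterMatrix.F₄.Group), ∃ c : FF φ 0, c ≠ 0 ∧ ∀ a : FF φ 0,
      nn hφ i * x φ q (rep cs RGDTwE6.isCartan w top) a * (nn hφ i)⁻¹ =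
        x φ q (rep cs RGDTwE6.isCartan (cs.simple i * w) top) ((c * a : FF φ 0) : K) := by
    intro i w
    refine ⟨1, one_ne_zero, fun a => ?_⟩
    have h2 : (2 : K) = 0 := by
      have := CharP.cast_eq_zero K 2
      exact_mod_cast this
    obtain ⟨η, hη, h5⟩ := conj_nn hφ hqq (hθ.act w) i
    rw [(h5 _ (hok w a)).2, hη.eq_one h2, rep_mul_apply, if_neg (fun h => not_both (hLg w) h.1), one_mul, one_mul]
  have hB : RGD.B cs RGDTwE6.isCartan (T K q) (X φ q) ≤ SP fun a : FF φ 0 => x φ q top (a : K) := by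
    refine sup_le (fun s hs => ?_) (RGD.Sup_le fun y hy => ?_)
    · obtain ⟨c, hc0, hc⟩ := hact s hs 1
      rw [map_one, Module.End.one_apply] at hc
      exact ⟨Units.mk0 c hc0, fun a => hc a⟩
    · intro u hu
      exact ⟨1, by rw [Units.val_one]; exact sc_comm fun a => comm_top hφ hqq hy.1 hy.2 hu a⟩
  have hBN : RGD.B cs RGDTwE6.isCartan (T K q) (X φ q) ≤ Subgroup.normalizer (X φ q top : Set ↥(twistedE6 K q)) := by
    intro g hg
    obtain ⟨c, hc⟩ := hB hg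
    rw [Subgroup.mem_normalizer_iff]
    intro y
    constructor
    · intro hy
      obtain ⟨a, rfl⟩ := (hz y).1 hy
      exact (hz _).2 ⟨_, (hc a).symm⟩
    · intro hy
      obtain ⟨a, ha⟩ := (hz _).1 hy
      have h3 := Sc.inv hc a
      rw [ha] at h3
      have h4 : g⁻¹ * (g * y * g⁻¹) * g⁻¹⁻¹ = y := by group
      rw [h4] at h3
      exact (hz _).2 ⟨_, h3.symm⟩
  have L : Long R top (X φ q top) := long_X R hθ hdom hBN
  -- representatives
  have hk : ∀ w k, Rp cs R.nsys w k → ∃ c : FF φ 0, c ≠ 0 ∧ ∀ a : FF φ 0, k * x φ q top a * k⁻¹ =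
      x φ q (rep cs RGDTwE6.isCartan w top) ((c * a : FF φ 0) : K) := by
    intro w k hk
    exact Cfsg.Agent.H967.ThRgd.exists_scalar (R := R) (r := top) (x := fun z (a : FF φ 0) => x φ q z (a : K))
      hact hnact hk
  have hwit : ∀ (j : Fin 4) w k, Rp cs R.nsys w k → Wit (fun a : FF φ 0 => x φ q top (a : K)) k
      (pairing RGDTwE6.A j top) (pairing RGDTwE6.A j (rep cs RGDTwE6.isCartan w top)) := by
    intro j w k hk' e
    obtain ⟨c, hc0, h5⟩ := hk w k hk'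
    refine ⟨hh φ q j ((e : FF φ 0) : K), ?_, ?_⟩
    · intro a
      exact hh_long hφ hqq hθ Lg_top j e a
    · intro a
      have e1 : k⁻¹ * hh φ q j ((e : FF φ 0) : K) * k * x φ q top a * (k⁻¹ * hh φ q j ((e : FF φ 0) : K) * k)⁻¹ =
          k⁻¹ * (hh φ q j ((e : FF φ 0) : K) * (k * x φ q top a * k⁻¹) * (hh φ q j ((e : FF φ 0) : K))⁻¹) * k := by
        group
      show k⁻¹ * hh φ q j ((e : FF φ 0) : K) * k * x φ q top a * (k⁻¹ * hh φ q j ((e : FF φ 0) : K) * k)⁻¹ = _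
      rw [e1, h5, hh_long hφ hqq (hθ.act w) (hLg w) j e]
      have e2 : ((e ^ pairing RGDTwE6.A j (rep cs RGDTwE6.isCartan w top) : (FF φ 0)ˣ) : FF φ 0) * (c * a) =
          c * (((e ^ pairing RGDTwE6.A j (rep cs RGDTwE6.isCartan w top) : (FF φ 0)ˣ) : FF φ 0) * a) := by ring
      rw [e2, ← h5]
      group
  refine ratOdd_rgd R hG L (z := fun a : FF φ 0 => x φ q top (a : K)) z_inj hz hl3 hl hB ?_ ?_ ?_ ?_ ?_
  · intro w k hk' hw
    obtain ⟨c, hc0, h5⟩ := hk w k hk'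
    rw [hw] at h5
    exact ⟨Units.mk0 c hc0, h5⟩
  · refine ⟨pairing RGDTwE6.A 0 top, ?_, by decide⟩
    have h5 := hwit 0 1 1 (rp_of_mem (one_mem _))
    rwa [map_one, Module.End.one_apply] at h5
  · intro w k hk' hw
    obtain ⟨i, hi⟩ := exists_vv (hθ.act w)
    have h5 := hLg w
    rw [hi] at h5 hw
    obtain ⟨j, hj⟩ := three_tab i h5 hw
    refine ⟨_, _, hwit j w k hk', ?_⟩
    rw [hi]
    exact hj
  · intro w k hk' hw s hs c c' hc1 hc2
    obtain ⟨b, hb0, hb⟩ := hk w k hk'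
    rw [hw] at hb
    have h5 : (c : FF φ 0) * c' = 1 := by
      refine opp_top hφ hqq hs hc1 fun a => ?_
      have h6 := hc2 (b⁻¹ * a)
      have h7 : s * (k * x φ q top ((b⁻¹ * a : FF φ 0) : K) * k⁻¹) * s⁻¹ =
          k * x φ q top (((c' : FF φ 0) * (b⁻¹ * a) : FF φ 0) : K) * k⁻¹ := by
        simp only at h6
        rw [← h6]
        group
      rw [hb, hb] at h7
      have h8 : b * (b⁻¹ * a) = a := mul_inv_cancel_left₀ hb0 a
      have h9 : b * ((c' : FF φ 0) * (b⁻¹ * a)) = (c' : FF φ 0) * a := by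
        rw [mul_left_comm, h8]
      rwa [h8, h9] at h7
    have h6 : c * c' = 1 := Units.ext (by rw [Units.val_mul, h5, Units.val_one])
    rw [h6, map_one]
  · intro i _ y hy a
    exact comm_top hφ hqq (isRoot_sr cs RGDTwE6.isCartan i) (sr_nonneg i) hy a

/-- **`²E₆(q)`, `q` even.** -/
theorem tw_e_six (K : Type*) [Field K] [Fintype K] [CharP K 2] (q : ℕ) (hq : IsPrimePow q)
    (hK : Fintype.card K = q ^ 2) : Cfsg.Agent.H636.Gow.RatOdd ↥(twistedE6 K q) := by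
  obtain ⟨p, f, hp, hf, rfl⟩ := (isPrimePow_nat_iff _).1 hq
  have h1 : p ∣ Fintype.card K := by
    rw [hK, ← pow_mul]
    exact dvd_pow_self p (by positivity)
  obtain ⟨n, -, hn⟩ := FiniteField.card K 2
  rw [hn] at h1
  have h2 : p = 2 := (Nat.prime_dvd_prime_iff_eq hp Nat.prime_two).1 (hp.dvd_of_dvd_pow h1)
  subst h2
  rcases Nat.even_or_odd f with h3 | h3
  · refine ratOdd_even hf.ne' rfl ?_ hK
    obtain ⟨m, rfl⟩ := h3
    have h4 : 2 ^ (m + m) = 4 ^ m := by rw [← two_mul, pow_mul]; norm_num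
    rw [h4]
    have h5 := Nat.sub_dvd_pow_sub_pow 4 1 m
    rwa [one_pow] at h5
  · exact ratOdd_odd h3 rfl hK

end Cfsg.Agent.H643.Gow.TwE
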